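import Cfsg.Agent.ESix.StepChecks

/-!
# The ten neighbours of a coordinate
-/

set_option autoImplicit false

namespace CfsgLib.AltSectESix

open CfsgLib.ESix

/-- The neighbours of a coordinate, each with its mate. -/
def mates (a : ℕ) : List (ℕ × ℕ) :=
  (List.range 27).filterMap fun l =>
    match side a l with
    | [(_, k)] => some (l, k)
    | _ => none

/-- There are ten neighbours and the minor on them and their mates is monomial. -/
def chkMates (a : ℕ) : Bool :=
  (mates a).length == 10 && (List.range 10).all fun i => (List.range 10).all fun j =>
    decide (((mates a).getD i (0, 0)).1 < 27) && decide (((mates a).getD j (0, 0)).2 < 27) &&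
      (if i == j then sideIs ((mates a).getD i (0, 0)).1 ((mates a).getD j (0, 0)).2 a
       else (side ((mates a).getD i (0, 0)).1 ((mates a).getD j (0, 0)).2).isEmpty)

theorem mates_ok : (List.range 27).all chkMates = true := by decide +kernel

end CfsgLib.AltSectESix
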