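import Cfsg.Agent.AltSectESix.Form
import Cfsg.Agent.AltSectESix.Mates
import Cfsg.Agent.ESix.Elim

/-!
# The trilinear form on the 27 coordinates

Its contraction with a non-zero vector has rank at least ten: at a non-zero coordinate the ten
neighbours give a monomial minor.
-/

set_option autoImplicit false

namespace CfsgLib.AltSectESix

open CfsgLib.ESix Cfsg.Lie

variable (K : Type) [Field K]

theorem bF_comm (u v w : Cfsg.Lie.I27 → K) : bF u v w = bF v u w :=
  congrArg List.sum (List.map_congr_left fun e _ => by simp only [term]; ring)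

theorem bF_add_left (u u' v w : Cfsg.Lie.I27 → K) : bF (u + u') v w = bF u v w + bF u' v w := by
  rw [bF_comm K (u + u'), bF_swap, bF_add_right]
  congr 1 <;> rw [bF_swap, bF_comm]

theorem bF_add_mid (u v v' w : Cfsg.Lie.I27 → K) : bF u (v + v') w = bF u v w + bF u v' w := by
  rw [bF_swap, bF_add_right, bF_swap u v w, bF_swap u v' w]

/-- The form as a linear map. -/
def bLin : (Cfsg.Lie.I27 → K) →ₗ[K] (Cfsg.Lie.I27 → K) →ₗ[K] Module.Dual K (Cfsg.Lie.I27 → K) :=
  LinearMap.mk₂ K
    (fun u v => ({ toFun := bF u v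
                   map_add' := bF_add_right u v
                   map_smul' := fun c w => by simp [bF_smul_right] } : Module.Dual K _))
    (fun u u' v => LinearMap.ext fun w => bF_add_left K u u' v w)
    (fun c u v => LinearMap.ext fun w => bF_smul_left c u v w)
    (fun u v v' => LinearMap.ext fun w => bF_add_mid K u v v' w)
    (fun c u v => LinearMap.ext fun w => bF_smul_mid c u v w)

theorem bLin_apply (u v w : Cfsg.Lie.I27 → K) : bLin K u v w = bF u v w := rfl

theorem ten_le_rank {u : Cfsg.Lie.I27 → K} (hu : u ≠ 0) :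
    10 ≤ Module.finrank K (LinearMap.range (bLin K u)) := by
  obtain ⟨i, hi⟩ := Function.ne_iff.1 hu
  rw [Pi.zero_apply] at hi
  obtain ⟨a, ha, rfl⟩ : ∃ a < 27, pt a = i := ⟨ci i, ci_lt i, pt_ci i⟩
  have h := List.all_eq_true.1 mates_ok a (List.mem_range.2 ha)
  simp only [chkMates, Bool.and_eq_true, List.all_eq_true, List.mem_range, beq_iff_eq,
    decide_eq_true_eq] at h
  let L : ℕ → ℕ := fun j => ((mates a).getD j (0, 0)).1
  let P : ℕ → ℕ := fun j => ((mates a).getD j (0, 0)).2
  let T : LinearMap.range (bLin K u) →ₗ[K] (Fin 10 → K) :=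
    LinearMap.pi fun j =>
      { toFun := fun f => (f : Module.Dual K (Cfsg.Lie.I27 → K)) (bv K (P j))
        map_add' := fun f f' => by simp
        map_smul' := fun c f => by simp }
  have hT : Function.Surjective T := by
    rw [← LinearMap.range_eq_top, eq_top_iff]
    intro x _
    rw [pi_eq_sum_univ' x]
    refine Submodule.sum_mem _ fun j _ => Submodule.smul_mem _ _ ?_
    have hj := h.2 j j.isLt j j.isLt
    rw [if_pos rfl] at hj
    have hne : evalL u (side (L j) (P j)) ≠ 0 := by
      rcases sideIs_eval hj.2 u with e | e <;> rw [e]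
      · exact hi
      · exact neg_ne_zero.2 hi
    refine ⟨(evalL u (side (L j) (P j)))⁻¹ • ⟨bLin K u (bv K (L j)), bv K (L j), rfl⟩, ?_⟩
    funext k
    have hk := h.2 j j.isLt k k.isLt
    have e : bF u (bv K (L j)) (bv K (P k)) = evalL u (side (L j) (P k)) := by
      rw [bF_comm, bF_swap]
      exact bF_side _ _ hk.1.1 hk.1.2 u
    simp only [T, LinearMap.pi_apply, map_smul, smul_eq_mul, LinearMap.coe_mk, AddHom.coe_mk,
      bLin_apply, e, Pi.single_apply]
    by_cases hjk : k = j
    · subst hjk; simp [inv_mul_cancel₀ hne]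
    · rw [if_neg fun e : k = j => hjk e]
      have h' := hk.2
      rw [if_neg fun e : (j : ℕ) = k => hjk (Fin.ext e.symm)] at h'
      rw [List.isEmpty_iff] at h'
      rw [show side (L j) (P k) = [] from h']
      simp [evalL]
  exact (Module.finrank_fin_fun K (n := 10)).symm.le.trans
    (LinearMap.finrank_le_finrank_of_surjective hT)

/-- The form on the 27 coordinates. -/
def cube27 : CubeForm K (Cfsg.Lie.I27 → K) where
  B := bLin K
  symm₁ := bF_comm K
  symm₂ := fun u v w => (bF_swap u v w).symm
  ten_le := fun _ hu => ten_le_rank K hu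

/-- The universal group preserves the form. -/
theorem pres_of_mem_univ {t₀ : K} (h0 : t₀ ≠ 0) (h1 : t₀ ≠ 1) {g : GL Cfsg.Lie.I27 K}
    (hg : g ∈ E6univ K) :
    (cube27 K).Pres (Matrix.toLinAlgEquiv' (g : Matrix Cfsg.Lie.I27 Cfsg.Lie.I27 K)) := by
  intro u v w
  have := (univ_invariant h0 h1 hg).2 u v w
  simpa [cube27, bLin_apply, Matrix.toLinAlgEquiv'_apply] using this

end CfsgLib.AltSectESix
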