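import Cfsg.Agent.AltSectESix.Main
import Cfsg.Agent.AltSectESix.Rank
import Cfsg.Agent.ESix.Main

/-!
# Subgroups of the Chevalley group of type E₆ on the 27-dimensional module

A subgroup lifts to a finite group of isometries of the cube form over an algebraically closed
field.
-/

set_option autoImplicit false
set_option linter.unusedSectionVars false

namespace CfsgLib.AltSectESix

open CfsgLib.ESix CfsgLib.Chevalley Cfsg.Lie
open scoped MatrixGroups

variable {F : Type*} [Field F]

/-- Every element of the Chevalley group comes from the group on the 27 coordinates. -/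
theorem exists_lift {C : GL chevE6.Idx F} (hC : C ∈ chevE6.group F) :
    ∃ g ∈ G27 F, Compat g C := by
  rw [group_eq_closure good_chevE6] at hC
  induction hC using Subgroup.closure_induction with
  | mem x hx =>
    obtain ⟨r, t, rfl⟩ := hx
    exact ⟨_, xE_mem _ t, compat_root r t⟩
  | one => exact ⟨1, one_mem _, Compat.one⟩
  | mul a b _ _ iha ihb =>
    obtain ⟨g, hg, hgc⟩ := iha
    obtain ⟨g', hg', hgc'⟩ := ihb
    exact ⟨g * g', mul_mem hg hg', hgc.mul hgc'⟩
  | inv a _ iha =>
    obtain ⟨g, hg, hgc⟩ := iha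
    exact ⟨g⁻¹, inv_mem hg, hgc.inv⟩

theorem map_G27_le {K : Type} [Field K] (f : F →+* K) :
    (G27 F).map (Units.map f.mapMatrix.toMonoidHom) ≤ G27 K := by
  rw [G27, MonoidHom.map_closure, Subgroup.closure_le]
  rintro _ ⟨_, ⟨⟨r, t⟩, rfl⟩, rfl⟩
  have e : Units.map f.mapMatrix.toMonoidHom (xE r t) = xE r (f t) := by
    refine Units.ext (Matrix.ext fun i j => ?_)
    show f ((1 + t • eM F (er r) : Matrix I27 I27 F) i j) =
      (1 + f t • eM K (er r) : Matrix I27 I27 K) i j
    simp only [Matrix.add_apply, Matrix.smul_apply, eM, Matrix.of_apply, smul_eq_mul, map_add,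
      map_mul, map_intCast, Matrix.one_apply]
    split_ifs <;> simp
  rw [e]
  exact xE_mem r (f t)

/-- The bound on alternating sections of the Chevalley group of type E₆. -/
theorem section_bound [Fintype F] (p : ℕ) [hp : Fact p.Prime] [CharP F p] {N : ℕ}
    (H : Subgroup (GL chevE6.Idx F)) (hH : H ≤ chevE6.group F)
    (φ : H →* alternatingGroup (Fin N)) (hφ : Function.Surjective φ) :
    N ≤ 11 + (if p = 2 ∨ p = 3 ∨ p = 5 then 1 else 0) := by
  classical
  let P : Subgroup (GL I27 F) :=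
    { carrier := {g | g ∈ G27 F ∧ ∃ C ∈ H, Compat g C}
      one_mem' := ⟨one_mem _, 1, one_mem _, Compat.one⟩
      mul_mem' := fun {a b} ⟨ha, C, hC, c⟩ ⟨hb, C', hC', c'⟩ =>
        ⟨mul_mem ha hb, C * C', mul_mem hC hC', c.mul c'⟩
      inv_mem' := fun {a} ⟨ha, C, hC, c⟩ => ⟨inv_mem ha, C⁻¹, inv_mem hC, c.inv⟩ }
  have hmem : ∀ g : P, ∃ C : H, Compat (g : GL I27 F) (C : GL chevE6.Idx F) := fun g =>
    ⟨⟨_, g.2.2.choose_spec.1⟩, g.2.2.choose_spec.2⟩
  choose π₀ hπ₀ using hmem
  let π : P →* H :=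
    MonoidHom.mk' π₀ fun a b =>
      Subtype.ext ((hπ₀ (a * b)).unique ((hπ₀ a).mul (hπ₀ b)))
  have hπ : Function.Surjective π := fun C => by
    obtain ⟨g, hg, hgc⟩ := exists_lift (hH C.2)
    exact ⟨⟨g, hg, C, C.2, hgc⟩, Subtype.ext ((hπ₀ _).unique hgc)⟩
  letI : Algebra (ZMod p) F := ZMod.algebra F p
  let K := AlgebraicClosure (ZMod p)
  let f : F →+* K := (IsAlgClosed.lift : F →ₐ[ZMod p] AlgebraicClosure (ZMod p)).toRingHom
  haveI : CharP K p := charP_of_injective_ringHom f.injective p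
  let μ : GL I27 F →* GL I27 K := Units.map f.mapMatrix.toMonoidHom
  have hμ : Function.Injective μ := fun a b hab =>
    Units.ext (Matrix.map_injective f.injective (congrArg Units.val hab))
  let eP := P.equivMapOfInjective μ hμ
  haveI : Finite (P.map μ) := Finite.of_equiv P eP.toEquiv
  let ψ : P.map μ →* alternatingGroup (Fin N) := (φ.comp π).comp eP.symm.toMonoidHom
  let ρ : P.map μ →* Module.End K (I27 → K) :=
    (Matrix.toLinAlgEquiv' : Matrix I27 I27 K ≃ₐ[_] _).toRingEquiv.toMonoidHom.comp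
      ((Units.coeHom _).comp (P.map μ).subtype)
  have hρ : Function.Injective ρ := fun a b hab =>
    Subtype.ext (Units.ext (Matrix.toLinAlgEquiv'.injective hab))
  obtain ⟨t₀, ht⟩ := Infinite.exists_notMem_finset ({0, 1} : Finset K)
  simp only [Finset.mem_insert, Finset.mem_singleton, not_or] at ht
  have hpres : ∀ g, (cube27 K).Pres (ρ g) := fun g => by
    obtain ⟨a, ha, e⟩ := g.2
    exact pres_of_mem_univ K ht.1 ht.2
      (G27_le (map_G27_le f (show (g : GL I27 K) ∈ (G27 F).map μ from ⟨a, ha.1, e⟩)))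
  refine degree_le p (cube27 K) ?_ ρ hρ hpres ψ ((hφ.comp hπ).comp eP.symm.surjective)
  simp [Module.finrank_fintype_fun_eq_card]

end CfsgLib.AltSectESix
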