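import Cfsg.Agent.AltSectESix.Lifts
import Cfsg.Agent.AltMinDeg.Main

/-!
# Five-cycles on constituents in characteristic three

In degree thirteen a lift of a five-cycle has at most an eighth of the dimension in each
non-trivial eigenspace, and a three-cycle outside two five-cycles fixes those eigenspaces.
-/

set_option autoImplicit false
set_option linter.unusedSectionVars false
set_option maxHeartbeats 800000

namespace CfsgLib.AltSectESix

open Module Equiv Equiv.Perm CfsgAltMinDeg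
open scoped commutatorElement

/-- The five-cycle on the first five points. -/
def sigA : alternatingGroup (Fin 13) := cyc 0 1 2 * cyc 2 3 4

/-- The five-cycle on the next five points. -/
def sigB : alternatingGroup (Fin 13) := cyc 5 6 7 * cyc 7 8 9

/-- Squares the first five-cycle. -/
def tauA : alternatingGroup (Fin 13) :=
  ⟨swap 1 2 * swap 2 4 * swap 4 3 * swap 10 11, by rw [mem_alternatingGroup]; decide⟩

/-- Squares the second five-cycle. -/
def tauB : alternatingGroup (Fin 13) :=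
  ⟨swap 6 7 * swap 7 9 * swap 9 8 * swap 10 11, by rw [mem_alternatingGroup]; decide⟩

/-- Exchanges the two five-cycles. -/
def swapAB : alternatingGroup (Fin 13) :=
  ⟨swap 0 5 * swap 1 6 * swap 2 7 * swap 3 8 * swap 4 9 * swap 10 11, by
    rw [mem_alternatingGroup]; decide⟩

theorem five_facts :
    (sigA ^ 5 = 1 ∧ sigA ≠ 1 ∧ tauA * sigA * tauA⁻¹ = sigA ^ 2) ∧
      (sigB ^ 5 = 1 ∧ sigB ≠ 1 ∧ tauB * sigB * tauB⁻¹ = sigB ^ 2) ∧
        (swapAB * sigA * swapAB⁻¹ = sigB ∧ swapAB * tauA * swapAB⁻¹ = tauB ∧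
          swapAB * sigB * swapAB⁻¹ = sigA ∧ swapAB * tauB * swapAB⁻¹ = tauA) ∧
          (tauA * sigB = sigB * tauA ∧ tauA * tauB = tauB * tauA ∧ sigA * sigB = sigB * sigA ∧
            tauB * sigA = sigA * tauB) := by decide +kernel

theorem five_supports :
    (∀ x : Fin 13, (sigA : Perm (Fin 13)) x ≠ x → x ∈ ({0, 1, 2, 3, 4} : Finset (Fin 13))) ∧
      (∀ x : Fin 13, (sigB : Perm (Fin 13)) x ≠ x → x ∈ ({5, 6, 7, 8, 9} : Finset (Fin 13))) ∧
      (∀ x : Fin 13, (tauA : Perm (Fin 13)) x ≠ x →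
        x ∈ ({5, 6, 7, 8, 9} : Finset (Fin 13))ᶜ) ∧
      (∀ x : Fin 13, (tauB : Perm (Fin 13)) x ≠ x →
        x ∈ ({0, 1, 2, 3, 4} : Finset (Fin 13))ᶜ) := by decide +kernel

/-- The normal form of an exponent modulo five under multiplication by three. -/
theorem fin5_norm {α : Type} (d : Fin 5 → α) (hd : ∀ a, d (3 * a) = d a) (a : Fin 5)
    (ha : a ≠ 0) : d a = d 1 := by
  fin_cases a
  · exact absurd rfl ha
  · rfl
  · show d 2 = d 1
    rw [show (2 : Fin 5) = 3 * (3 * (3 * 1)) by decide, hd, hd, hd]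
  · show d 3 = d 1
    rw [show (3 : Fin 5) = 3 * 1 by decide, hd]
  · show d 4 = d 1
    rw [show (4 : Fin 5) = 3 * (3 * 1) by decide, hd, hd]

variable {K : Type} [Field K] [IsAlgClosed K] {V : Type} [AddCommGroup V] [Module K V]
  [FiniteDimensional K V]
  {H : Type} [Group H] [Finite H] {ρ : H →* Module.End K V}
  {φ : H →* alternatingGroup (Fin 13)}

/-- A commutator of lifts, as an operator. -/
noncomputable def fiveOp (hR : IsAltRep ρ φ) (τ σ : alternatingGroup (Fin 13)) : Module.End K V :=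
  ρ ⁅hR.lift τ, hR.lift σ⁆

theorem phi_fiveElt (hR : IsAltRep ρ φ) {τ σ : alternatingGroup (Fin 13)}
    (h : τ * σ * τ⁻¹ = σ ^ 2) : φ ⁅hR.lift τ, hR.lift σ⁆ = σ := by
  rw [map_commutatorElement, hR.map_lift, hR.map_lift, commutatorElement_def, h, pow_two,
    mul_inv_cancel_right]

theorem fiveOp_conj (hR : IsAltRep ρ φ) {g : H} {τ σ τ' σ' : alternatingGroup (Fin 13)}
    (hτ : φ g * τ * (φ g)⁻¹ = τ') (hσ : φ g * σ * (φ g)⁻¹ = σ') :
    ρ g * fiveOp hR τ σ * ρ g⁻¹ = fiveOp hR τ' σ' :=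
  hR.rho_conj_comm g (by rw [hR.map_lift, hR.map_lift, hτ]) (by rw [hR.map_lift, hR.map_lift, hσ])

theorem fiveOp_square (hR : IsAltRep ρ φ) {τ σ : alternatingGroup (Fin 13)}
    (h : τ * σ * τ⁻¹ = σ ^ 2) :
    ρ (hR.lift τ) * fiveOp hR τ σ * ρ (hR.lift τ)⁻¹ = fiveOp hR τ σ * fiveOp hR τ σ := by
  rw [fiveOp, hR.rho_conj_comm (hR.lift τ) (x := hR.lift τ) (y := hR.lift σ) (x' := hR.lift τ)
    (y' := hR.lift σ * hR.lift σ) (by rw [mul_inv_cancel_right])
    (by rw [map_mul, hR.map_lift, hR.map_lift, h, pow_two])]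
  have hu := phi_fiveElt hR h
  generalize hR.lift τ = t at hu ⊢
  generalize hs : hR.lift σ = s at hu ⊢
  have hs' : φ s = σ := by rw [← hs, hR.map_lift]
  have hz : φ (⁅t, s⁆⁻¹ * s) = 1 := by rw [map_mul, map_inv, hu, hs', inv_mul_cancel]
  have hfix : ρ (s * ⁅t, s⁆ * s⁻¹) = ρ ⁅t, s⁆ := by
    have e1 : s * ⁅t, s⁆ * s⁻¹ =
        ⁅t, s⁆ * ((⁅t, s⁆⁻¹ * s) * ⁅t, s⁆ * (⁅t, s⁆⁻¹ * s)⁻¹) * ⁅t, s⁆⁻¹ := by group
    generalize ⁅t, s⁆ = u at hz e1 ⊢
    generalize u⁻¹ * s = z at hz e1
    rw [e1, map_mul, map_mul, map_mul, map_mul, hR.central hz (ρ u), mul_assoc (ρ u) (ρ z),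
      end_mul_inv, mul_one, mul_assoc, end_mul_inv, mul_one]
  rw [show ⁅t, s * s⁆ = ⁅t, s⁆ * (s * ⁅t, s⁆ * s⁻¹) by
    simp only [commutatorElement_def]; group, map_mul, hfix]

theorem fiveOp_pow_five (hR : IsAltRep ρ φ) [Nontrivial V] {τ σ : alternatingGroup (Fin 13)}
    (h : τ * σ * τ⁻¹ = σ ^ 2) (h5 : σ ^ 5 = 1) : fiveOp hR τ σ ^ 5 = 1 := by
  obtain ⟨c, hc⟩ := (hR.scalar_iff (⁅hR.lift τ, hR.lift σ⁆ ^ 5)).1
    (by rw [map_pow, phi_fiveElt hR h, h5])
  rw [map_pow, ← fiveOp] at hc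
  have e := fiveOp_square hR h
  have h2 : (fiveOp hR τ σ * fiveOp hR τ σ) ^ 5 = c • 1 := by
    rw [← e]
    have : (ρ (hR.lift τ) * fiveOp hR τ σ * ρ (hR.lift τ)⁻¹) ^ 5 =
        ρ (hR.lift τ) * fiveOp hR τ σ ^ 5 * ρ (hR.lift τ)⁻¹ := by
      unfold fiveOp
      rw [← map_mul, ← map_mul, ← map_pow, conj_pow, map_mul, map_mul, map_pow]
    rw [this, hc, mul_smul_comm, mul_one, smul_mul_assoc, end_mul_inv]
  rw [(Commute.refl (fiveOp hR τ σ)).mul_pow, hc, smul_mul_smul_comm, one_mul] at h2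
  have hcc := smul_left_injective K (one_ne_zero (α := Module.End K V)) h2
  have hc0 : c ≠ 0 := by
    intro e0
    have h1 : fiveOp hR τ σ ^ 5 * ρ (⁅hR.lift τ, hR.lift σ⁆ ^ 5)⁻¹ = 1 := by
      rw [fiveOp, ← map_pow, ← map_mul, mul_inv_cancel, map_one]
    rw [hc, e0, zero_smul, zero_mul] at h1
    exact zero_ne_one h1
  rw [hc, mul_left_cancel₀ hc0 (hcc.trans (mul_one c).symm), one_smul]

/-- Lifts of permutations supported on a set on which a given element acts trivially commute with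
it. -/
theorem commute_supported (hR : IsAltRep ρ φ) (h3 : (3 : K) = 0) [Nontrivial V]
    (S : Finset (Fin 13)) (hS : 5 ≤ S.card) {u g : H}
    (hu : ∀ x ∈ S, (φ u : Perm (Fin 13)) x = x) (hg : (φ g : Perm (Fin 13)).support ⊆ S) :
    Commute (ρ g) (ρ u) := by
  classical
  let ι := alternatingGroup.ofSubtype (α := Fin 13) S
  haveI : IsSimpleGroup (alternatingGroup S) :=
    alternatingGroup.isSimpleGroup (by simpa using hS)
  let N : Subgroup (alternatingGroup S) :=
    { carrier := {x | ∀ k : H, φ k = ι x → Commute (ρ k) (ρ u)}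
      one_mem' := fun k hk => hR.central (hk.trans (map_one ι)) _
      mul_mem' := fun {a b} ha hb k hk => by
        obtain ⟨ka, hka⟩ := hR.surj (ι a)
        obtain ⟨kb, hkb⟩ := hR.surj (ι b)
        have hz : φ (k * (ka * kb)⁻¹) = 1 := by
          rw [map_mul, map_inv, map_mul, hka, hkb, hk, map_mul, mul_inv_cancel]
        rw [show k = (k * (ka * kb)⁻¹) * (ka * kb) by group, map_mul, map_mul ρ ka]
        exact Commute.mul_left (hR.central hz _) ((ha ka hka).mul_left (hb kb hkb))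
      inv_mem' := fun {a} ha k hk => by
        have h1 := ha k⁻¹ (by rw [map_inv, hk, map_inv, inv_inv])
        show ρ k * ρ u = ρ u * ρ k
        calc ρ k * ρ u = ρ k * (ρ u * (ρ k⁻¹ * ρ k)) := by rw [end_inv_mul, mul_one]
          _ = ρ k * (ρ k⁻¹ * ρ u) * ρ k := by rw [h1.eq]; simp only [mul_assoc]
          _ = ρ u * ρ k := by rw [← mul_assoc, end_mul_inv, one_mul] }
  have hcube : ∀ x : alternatingGroup S, x ^ 3 = 1 → x ∈ N := by
    intro x hx k hk
    refine (commute_of_cube hR h3 (g := u) (h := k) (by rw [hk, ← map_pow, hx, map_one]) ?_).symm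
    rw [hk]
    apply Subtype.ext
    refine (Equiv.Perm.Disjoint.commute fun y => ?_).eq
    by_cases hy : y ∈ S
    · exact Or.inl (hu y hy)
    · refine Or.inr ?_
      by_contra hne
      exact hy (((alternatingGroup.mem_range_ofSubtype_iff S (ι x)).1 ⟨x, rfl⟩)
        (Perm.mem_support.2 hne))
  let M := Subgroup.normalClosure {x : alternatingGroup S | x ^ 3 = 1}
  have hMle : M ≤ N := by
    refine (Subgroup.closure_le N).2 fun x hx => hcube x ?_
    obtain ⟨y, hy, hconj⟩ := Group.mem_conjugatesOfSet_iff.1 hx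
    obtain ⟨c, rfl⟩ := isConj_iff.1 hconj
    rw [conj_pow, show y ^ 3 = 1 from hy, mul_one, mul_inv_cancel]
  have hM : M = ⊤ := by
    refine (Subgroup.normalClosure_normal.eq_bot_or_eq_top).resolve_left fun e => ?_
    haveI : Fact (Nat.Prime 3) := ⟨Nat.prime_three⟩
    haveI : Nontrivial S := Fintype.one_lt_card_iff_nontrivial.1 (by rw [Fintype.card_coe]; omega)
    obtain ⟨x, hx⟩ := exists_prime_orderOf_dvd_card' (G := alternatingGroup S) 3 (by
      rw [nat_card_alternatingGroup, Nat.card_eq_fintype_card, Fintype.card_coe]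
      obtain ⟨j, hj⟩ : ∃ j, S.card = 3 + j := ⟨S.card - 3, by omega⟩
      refine (Nat.dvd_div_iff_mul_dvd ?_).2 ?_
      · exact dvd_trans (by norm_num) (Nat.factorial_dvd_factorial (show 3 ≤ S.card by omega))
      · exact dvd_trans (by norm_num) (Nat.factorial_dvd_factorial (show 3 ≤ S.card by omega)))
    have hmem : x ∈ M := Subgroup.subset_normalClosure (by
      show x ^ 3 = 1
      rw [← hx, pow_orderOf_eq_one])
    replace hmem : x = 1 := Subgroup.mem_bot.1 (e ▸ hmem)
    rw [hmem, orderOf_one] at hx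
    omega
  obtain ⟨x, hx⟩ := (alternatingGroup.mem_range_ofSubtype_iff S (φ g)).2 hg
  exact hMle (hM ▸ Subgroup.mem_top x) g hx.symm

/-- The bounds for five-cycles. -/
theorem factor_five (hR : IsAltRep ρ φ) (h3 : (3 : K) = 0) (hn : finrank K V ≤ 27)
    (hpos : 0 < finrank K V) {ζ : K} (hζ : IsPrimitiveRoot ζ 5) :
    ∃ m, (∀ a : Fin 5, a.val ≠ 0 →
        finrank K (Module.End.eigenspace (fiveOp hR tauA sigA) (ζ ^ a.val)) = m) ∧
      8 * m ≤ finrank K V ∧ 12 ≤ finrank K V ∧
      finrank K (LinearMap.range (ρ (hR.C5 10 11 12 5 6) - 1)) + 8 * m ≤ finrank K V := by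
  classical
  haveI : Nontrivial V := Module.nontrivial_of_finrank_pos hpos
  obtain ⟨⟨hA5, hA1, hAc⟩, ⟨hB5, hB1, hBc⟩, ⟨hs1, hs2, hs3, hs4⟩, hc1, hc2, hc3, hc4⟩ := five_facts
  obtain ⟨sA, sB, stA, stB⟩ := five_supports
  have h5 : ((5 : ℕ) : K) ≠ 0 := by
    intro h
    push_cast at h
    exact one_ne_zero (α := K) (by linear_combination (2 : K) * h3 - h)
  have h12 : 12 ≤ finrank K V := by
    have h := (CfsgAltMinDeg.good 13 (by norm_num) K V H ρ φ hR.surj
      fun x hx => (hR.scalar_iff x).mpr ⟨1, by rw [MonoidHom.mem_ker.mp hx, one_smul]⟩).2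
      (fun e => one_ne_zero (α := K) (by push_cast at e; linear_combination e - (4 : K) * h3))
    omega
  let Y := fiveOp hR tauA sigA
  let Z := fiveOp hR tauB sigB
  have hY5 : Y ^ 5 = 1 := fiveOp_pow_five hR hAc hA5
  have hZ5 : Z ^ 5 = 1 := fiveOp_pow_five hR hBc hB5
  have hcomm : Commute Y Z := by
    refine (hR.commute_comm ⁅hR.lift tauA, hR.lift sigA⁆ ?_ ?_) <;>
      rw [phi_fiveElt hR hAc, hR.map_lift]
    exacts [hc4.symm, hc3]
  let T : Fin 2 → Module.End K V := ![Y, Z]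
  have hTc : ∀ i j, Commute (T i) (T j) := by
    intro i j
    fin_cases i <;> fin_cases j
    exacts [Commute.refl _, hcomm, hcomm.symm, Commute.refl _]
  have hT5 : ∀ i, T i ^ 5 = 1 := by intro i; fin_cases i <;> assumption
  let d : Fin 5 → Fin 5 → ℕ := fun a b =>
    finrank K (joint T fun i => ζ ^ ((![a, b] : Fin 2 → Fin 5) i).val)
  have hpow : ∀ (a : Fin 5) (X : Module.End K V) (w : V), X ^ 5 = 1 →
      X (X w) = ζ ^ a.val • w → X w = ζ ^ (3 * a).val • w := by
    intro a X w hX hw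
    have h6 : (X ^ 6) w = X w := by rw [pow_succ', hX, mul_one]
    rw [← h6]
    simp only [pow_succ, pow_zero, one_mul, Module.End.mul_apply, hw, map_smul, smul_smul]
    congr 1
    rw [← pow_add, ← pow_add, (hζ.isOfFinOrder (by norm_num)).pow_eq_pow_iff_modEq,
      ← hζ.eq_orderOf]
    fin_cases a <;> decide
  -- the two symmetries
  have hswap : ∀ a b, d a b ≤ d b a := by
    intro a b
    refine LinearMap.finrank_le_finrank_of_injective
      (f := (ρ (hR.lift swapAB)).restrict (p := joint T fun i => ζ ^ ((![a, b] : Fin 2 → Fin 5) i).val)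
        (q := joint T fun i => ζ ^ ((![b, a] : Fin 2 → Fin 5) i).val) fun v hv => ?_)
      fun u v huv => Subtype.ext (rho_injective _ (congrArg Subtype.val huv))
    rw [mem_joint] at hv ⊢
    have eY := fiveOp_conj hR (g := hR.lift swapAB) (τ := tauA) (σ := sigA)
      (by rw [hR.map_lift, hs2]) (by rw [hR.map_lift, hs1])
    have eZ := fiveOp_conj hR (g := hR.lift swapAB) (τ := tauB) (σ := sigB)
      (by rw [hR.map_lift, hs4]) (by rw [hR.map_lift, hs3])
    have h0 : Y v = ζ ^ a.val • v := hv 0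
    have h1 : Z v = ζ ^ b.val • v := hv 1
    intro i
    fin_cases i
    · show Y (ρ (hR.lift swapAB) v) = ζ ^ b.val • _
      rw [show Y = _ from eZ.symm, Module.End.mul_apply, Module.End.mul_apply, inv_apply_apply, h1,
        map_smul]
    · show Z (ρ (hR.lift swapAB) v) = ζ ^ a.val • _
      rw [show Z = _ from eY.symm, Module.End.mul_apply, Module.End.mul_apply, inv_apply_apply, h0,
        map_smul]
  have hthree : ∀ a b, d a b ≤ d (3 * a) b := by
    intro a b
    refine LinearMap.finrank_le_finrank_of_injective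
      (f := (ρ (hR.lift tauA)).restrict (p := joint T fun i => ζ ^ ((![a, b] : Fin 2 → Fin 5) i).val)
        (q := joint T fun i => ζ ^ ((![3 * a, b] : Fin 2 → Fin 5) i).val) fun v hv => ?_)
      fun u v huv => Subtype.ext (rho_injective _ (congrArg Subtype.val huv))
    rw [mem_joint] at hv ⊢
    have eY := fiveOp_square hR hAc
    have eZ := fiveOp_conj hR (g := hR.lift tauA) (τ := tauB) (σ := sigB)
      (by rw [hR.map_lift, hc2, mul_inv_cancel_right]) (by rw [hR.map_lift, hc1, mul_inv_cancel_right])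
    have h0 : Y v = ζ ^ a.val • v := hv 0
    have h1 : Z v = ζ ^ b.val • v := hv 1
    intro i
    fin_cases i
    · show Y (ρ (hR.lift tauA) v) = ζ ^ (3 * a).val • _
      refine hpow a Y _ hY5 ?_
      rw [← Module.End.mul_apply, show Y * Y = _ from eY.symm, Module.End.mul_apply,
        Module.End.mul_apply, inv_apply_apply]
      show ρ (hR.lift tauA) (Y v) = _
      rw [h0, map_smul]
    · show Z (ρ (hR.lift tauA) v) = ζ ^ b.val • _
      have := LinearMap.congr_fun eZ (ρ (hR.lift tauA) v)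
      rw [Module.End.mul_apply, Module.End.mul_apply, inv_apply_apply] at this
      rw [show Z (ρ (hR.lift tauA) v) = _ from this.symm]
      show ρ (hR.lift tauA) (Z v) = _
      rw [h1, map_smul]
  have hsym : ∀ a b, d a b = d b a := fun a b => le_antisymm (hswap a b) (hswap b a)
  have hthree' : ∀ a b, d (3 * a) b = d a b := fun a b =>
    ((Finset.sum_eq_sum_iff_of_le (f := fun a => d a b) (g := fun a => d (3 * a) b)
      fun a _ => hthree a b).1
        ((Fintype.sum_bijective (fun a : Fin 5 => 3 * a) (by decide) _ _ fun _ => rfl).symm)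
        a (Finset.mem_univ a)).symm
  have hl : ∀ a b, a ≠ 0 → d a b = d 1 b := fun a b ha =>
    fin5_norm (fun a => d a b) (fun a => hthree' a b) a ha
  have hr : ∀ a b, b ≠ 0 → d a b = d a 1 := fun a b hb => by rw [hsym, hl _ _ hb, hsym]
  obtain ⟨A0, hA0⟩ : ∃ x, d 0 0 = x := ⟨_, rfl⟩
  obtain ⟨A1, hA1'⟩ : ∃ x, d 1 0 = x := ⟨_, rfl⟩
  obtain ⟨A2, hA2⟩ : ∃ x, d 1 1 = x := ⟨_, rfl⟩
  have hclass : ∀ a b, d a b =
      if a = 0 ∧ b = 0 then A0 else if a = 0 ∨ b = 0 then A1 else A2 := by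
    intro a b
    rw [← hA0, ← hA1', ← hA2]
    by_cases ha : a = 0 <;> by_cases hb : b = 0
    · simp [ha, hb]
    · rw [if_neg (fun h => hb h.2), if_pos (Or.inl ha), ha, hr 0 b hb, hsym]
    · rw [if_neg (fun h => ha h.1), if_pos (Or.inr hb), hb, hl a 0 ha]
    · rw [if_neg (fun h => ha h.1), if_neg (by simp [ha, hb]), hl a b ha, hr 1 b hb]
  -- sums
  have hsumAB : ∀ (P : (Fin 2 → Fin 5) → Prop) [DecidablePred P],
      ∑ s : Fin 2 → Fin 5 with P s, finrank K (joint T fun i => ζ ^ (s i).val) =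
        ∑ a : Fin 5, ∑ b : Fin 5, if P ![a, b] then d a b else 0 := by
    intro P _
    rw [Finset.sum_filter, ← Fintype.sum_prod_type']
    refine Fintype.sum_equiv (finTwoArrowEquiv (Fin 5)) _ _ fun s => ?_
    have es : (![(finTwoArrowEquiv (Fin 5) s).1, (finTwoArrowEquiv (Fin 5) s).2] : Fin 2 → Fin 5) = s := by
      funext i; fin_cases i <;> rfl
    simp only [d]
    rw [es]
  have htot : A0 + 8 * A1 + 16 * A2 = finrank K V := by
    have h := sum_joint hζ h5 hTc hT5
    rw [← Finset.filter_true_of_mem (s := (Finset.univ : Finset (Fin 2 → Fin 5)))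
      (p := fun _ => True) (fun _ _ => trivial), hsumAB] at h
    simp (decide := true) only [if_true, if_false, Fin.sum_univ_five, hclass] at h
    omega
  let m := A1 + 4 * A2
  have hYdim : ∀ a : Fin 5, a ≠ 0 → finrank K (Module.End.eigenspace Y (ζ ^ a.val)) = m := by
    intro a ha
    rw [show Module.End.eigenspace Y (ζ ^ a.val) = Module.End.eigenspace (T 0) (ζ ^ a.val) from rfl,
      ← sum_joint_eigen hζ h5 hTc hT5 0 a, hsumAB]
    simp only [Matrix.cons_val_zero]
    rw [Finset.sum_eq_single a (fun b _ hb => by simp [hb]) (by simp)]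
    simp (decide := true) only [ha, if_true, if_false, false_and, false_or, Fin.sum_univ_five, hclass]
    show _ = A1 + 4 * A2
    omega
  have hZdim : ∀ a : Fin 5, a ≠ 0 → finrank K (Module.End.eigenspace Z (ζ ^ a.val)) = m := by
    intro a ha
    rw [show Module.End.eigenspace Z (ζ ^ a.val) = Module.End.eigenspace (T 1) (ζ ^ a.val) from rfl,
      ← sum_joint_eigen hζ h5 hTc hT5 1 a, hsumAB]
    simp only [Matrix.cons_val_one, Matrix.cons_val_fin_one, Finset.sum_ite_eq', Finset.mem_univ,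
      if_true, Fin.sum_univ_five]
    simp (decide := true) only [ha, if_true, if_false, and_false, false_or, hclass]
    show _ = A1 + 4 * A2
    omega
  -- the groups outside either five-cycle
  let SA : Finset (Fin 13) := ({0, 1, 2, 3, 4} : Finset (Fin 13))ᶜ
  let SB : Finset (Fin 13) := ({5, 6, 7, 8, 9} : Finset (Fin 13))ᶜ
  have hcA : SA.card = 8 := by decide
  have hcB : SB.card = 8 := by decide
  have hinvA : ∀ μ (g : H), (φ g : Perm (Fin 13)).support ⊆ SA → ∀ w ∈ Module.End.eigenspace Y μ,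
      ρ g w ∈ Module.End.eigenspace Y μ := by
    intro μ g hg w hw
    have hc := commute_supported hR h3 SA (by omega) (u := ⁅hR.lift tauA, hR.lift sigA⁆) (g := g)
      (fun x hx => by
        rw [phi_fiveElt hR hAc]; by_contra hne; exact Finset.mem_compl.1 hx (sA x hne)) hg
    rw [Module.End.mem_eigenspace_iff] at hw ⊢
    show ρ ⁅hR.lift tauA, hR.lift sigA⁆ (ρ g w) = _
    rw [← Module.End.mul_apply, ← hc.eq, Module.End.mul_apply, show ρ ⁅_, _⁆ w = μ • w from hw,
      map_smul]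
  have hinvB : ∀ μ (g : H), (φ g : Perm (Fin 13)).support ⊆ SB → ∀ w ∈ Module.End.eigenspace Z μ,
      ρ g w ∈ Module.End.eigenspace Z μ := by
    intro μ g hg w hw
    have hc := commute_supported hR h3 SB (by omega) (u := ⁅hR.lift tauB, hR.lift sigB⁆) (g := g)
      (fun x hx => by
        rw [phi_fiveElt hR hBc]; by_contra hne; exact Finset.mem_compl.1 hx (sB x hne)) hg
    rw [Module.End.mem_eigenspace_iff] at hw ⊢
    show ρ ⁅hR.lift tauB, hR.lift sigB⁆ (ρ g w) = _
    rw [← Module.End.mul_apply, ← hc.eq, Module.End.mul_apply, show ρ ⁅_, _⁆ w = μ • w from hw,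
      map_smul]
  have hscal : ∀ {S : Finset (Fin 13)} {x y : H} {W : Submodule K V},
      (φ x : Perm (Fin 13)).support ⊆ S → (φ y : Perm (Fin 13)).support ⊆ S →
      (∀ h : H, (φ h : Perm (Fin 13)).support ⊆ S → ∃ c : K, ∀ w ∈ W, ρ h w = c • w) →
      ∀ w ∈ W, ρ ⁅x, y⁆ w = w := by
    intro S x y W hx hy hsc w hw
    obtain ⟨cx, hcx⟩ := hsc x hx
    obtain ⟨cy, hcy⟩ := hsc y hy
    have hcomm' : ∀ z ∈ W, ρ x (ρ y z) = ρ y (ρ x z) := fun z hz => by
      rw [hcy z hz, map_smul, hcx z hz, map_smul, hcy z hz, smul_comm]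
    obtain ⟨cx', hcx'⟩ := hsc x⁻¹ (by rwa [map_inv, Subgroup.coe_inv, Perm.support_inv])
    obtain ⟨cy', hcy'⟩ := hsc y⁻¹ (by rwa [map_inv, Subgroup.coe_inv, Perm.support_inv])
    have hy' : ρ y⁻¹ w ∈ W := by rw [hcy' w hw]; exact W.smul_mem _ hw
    have hxy' : ρ x⁻¹ (ρ y⁻¹ w) ∈ W := by rw [hcx' _ hy']; exact W.smul_mem _ hy'
    rw [commutatorElement_def, map_mul, map_mul, map_mul, Module.End.mul_apply,
      Module.End.mul_apply, Module.End.mul_apply, hcomm' _ hxy', apply_inv_apply, apply_inv_apply]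
  have hsuppA : (φ (hR.lift tauB) : Perm (Fin 13)).support ⊆ SA ∧
      (φ (hR.lift sigB) : Perm (Fin 13)).support ⊆ SA := by
    simp only [hR.map_lift]
    refine ⟨fun x hx => stB x (Perm.mem_support.1 hx), fun x hx => ?_⟩
    have := sB x (Perm.mem_support.1 hx)
    revert this; revert x; decide
  -- no joint eigenvectors
  have hd11 : d 1 1 = 0 := by
    rw [hA2]
    by_contra h0
    obtain ⟨v, hv, hv0⟩ := (Submodule.ne_bot_iff _).1
      (fun e : (joint T fun i => ζ ^ ((![1, 1] : Fin 2 → Fin 5) i).val) = ⊥ =>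
        h0 (by rw [← hA2]; simp only [d]; rw [e, finrank_bot]))
    rw [mem_joint] at hv
    have hvY : v ∈ Module.End.eigenspace Y (ζ ^ (1 : Fin 5).val) :=
      Module.End.mem_eigenspace_iff.2 (hv 0)
    obtain ⟨P, ρ', φ', hR', -⟩ := hR.restrict_subset SA (by omega)
      (Module.End.eigenspace Y (ζ ^ (1 : Fin 5).val)) (hinvA _) (by
        by_contra hcon
        push Not at hcon
        have hv1 : Z v = ζ ^ (1 : Fin 5).val • v := hv 1
        rw [show Z v = v from hscal hsuppA.1 hsuppA.2 hcon v hvY, ← one_smul K v] at hv1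
        exact hζ.ne_one (by norm_num) (by simpa using (smul_left_injective K hv0 (by simpa using hv1)).symm))
    have hm5 : m ≤ 5 := by show A1 + 4 * A2 ≤ 5; omega
    exact no_small_five hR' h3 (by omega) (by rw [hYdim 1 (by decide)]; omega)
  have hm : m = A1 := by show A1 + 4 * A2 = A1; omega
  refine ⟨m, fun a ha => hYdim a (fun e => ha (by rw [e]; rfl)), by omega, h12, ?_⟩
  -- the three-cycle fixes the axes
  let x := hR.C5 10 11 12 5 6
  have hZW : ∀ a : Fin 5, a ≠ 0 → ∀ w ∈ Module.End.eigenspace Y (ζ ^ a.val), Z w = w := by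
    intro a ha w hw
    have hw2 : w ∈ ⨆ s : Fin 2 → Fin 5, joint T fun i => ζ ^ (s i).val :=
      iSup_joint hζ h5 hTc hT5 ▸ Submodule.mem_top
    have hzero : ∀ s : Fin 2 → Fin 5, s 0 = a → s 1 ≠ 0 →
        (joint T fun i => ζ ^ (s i).val) = ⊥ := by
      intro s e0 e1
      refine Submodule.finrank_eq_zero.1 ?_
      have es : (fun i => ζ ^ (s i).val) = fun i => ζ ^ ((![s 0, s 1] : Fin 2 → Fin 5) i).val := by
        funext i; fin_cases i <;> rfl
      rw [es]
      show d (s 0) (s 1) = 0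
      rw [hl _ _ (e0 ▸ ha), hr _ _ e1, hd11]
    have hle : Module.End.eigenspace Y (ζ ^ a.val) ≤
        ⨆ s ∈ (Finset.univ.filter fun s : Fin 2 → Fin 5 => s 0 = a),
          joint T fun i => ζ ^ (s i).val := by
      refine le_of_eq (Submodule.eq_of_le_of_finrank_eq ?_ ?_).symm
      · refine iSup₂_le fun s hs => (iInf_le _ 0).trans (le_of_eq ?_)
        rw [Finset.mem_filter] at hs
        simp only [hs.2]; rfl
      · rw [finrank_biSup (iSupIndep_joint hζ hTc), sum_joint_eigen hζ h5 hTc hT5 0 a]; rfl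
    refine LinearMap.mem_ker.1 ((hle.trans (iSup₂_le (a := LinearMap.ker (Z - 1)) fun s hs => ?_)) hw)
      |> sub_eq_zero.1
    rw [Finset.mem_filter] at hs
    by_cases h1 : s 1 = 0
    · intro u hu
      have h := mem_joint.1 hu 1
      rw [h1] at h
      rw [LinearMap.mem_ker, LinearMap.sub_apply, Module.End.one_apply]
      rw [show Z u = T 1 u from rfl, h, Fin.val_zero, pow_zero, one_smul, sub_self]
    · rw [hzero s hs.2 h1]; exact bot_le
  have hscA : ∀ a : Fin 5, a ≠ 0 → ∀ g : H, (φ g : Perm (Fin 13)).support ⊆ SA →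
      ∃ c : K, ∀ w ∈ Module.End.eigenspace Y (ζ ^ a.val), ρ g w = c • w := by
    intro a ha g hg
    by_contra hns
    obtain ⟨P, ρ', φ', hR', hP, hφ', hρ'⟩ := hR.restrict_subset SA (by omega)
      (Module.End.eigenspace Y (ζ ^ a.val)) (hinvA _) ⟨g, hg, hns⟩
    have hmem : ⁅hR.lift tauB, hR.lift sigB⁆ ∈ P := hP _ (by
      rw [phi_fiveElt hR hBc, ← hR.map_lift sigB]; exact hsuppA.2)
    have h1 : φ' ⟨_, hmem⟩ = 1 := (hR'.scalar_iff _).2 ⟨1, by
      rw [one_smul]
      refine LinearMap.ext fun w => Subtype.ext ?_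
      rw [hρ']
      exact hZW a ha w w.2⟩
    exact hB1 (by rw [← phi_fiveElt hR hBc]; exact hφ' _ h1)
  have hx6 : ∀ (g : Fin 13) (S : Finset (Fin 13)), g ≠ 10 → g ≠ 11 → g ≠ 12 → g ∈ S → 10 ∈ S →
      11 ∈ S → 12 ∈ S → ∀ b : Fin 13, b = 11 ∨ b = 12 →
      (φ (hR.lift (cyc 10 b g)) : Perm (Fin 13)).support ⊆ S := by
    intro g S h0 h1 h2 hg h10 h11 h12' b hb y hy
    rw [hR.map_lift, Perm.mem_support] at hy
    by_contra hyS
    refine hy (cyc_apply_other (fun e => hyS (e ▸ h10)) (fun e => hyS ?_) fun e => hyS (e ▸ hg))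
    subst e
    rcases hb with rfl | rfl <;> assumption
  have hkA : ∀ a : Fin 5, a ≠ 0 →
      Module.End.eigenspace Y (ζ ^ a.val) ≤ LinearMap.ker (ρ x - 1) := by
    intro a ha w hw
    rw [LinearMap.mem_ker, LinearMap.sub_apply, Module.End.one_apply, sub_eq_zero]
    exact hscal
      (hx6 5 SA (by decide) (by decide) (by decide) (by decide) (by decide) (by decide) (by decide)
        11 (Or.inl rfl))
      (hx6 6 SA (by decide) (by decide) (by decide) (by decide) (by decide) (by decide) (by decide)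
        12 (Or.inr rfl)) (hscA a ha) w hw
  have hxx : ρ x = ρ (hR.C5 10 11 12 0 1) := hR.C5_indep (by norm_num) (by decide) (by decide)
  have hkB : ∀ a : Fin 5, a ≠ 0 →
      Module.End.eigenspace Z (ζ ^ a.val) ≤ LinearMap.ker (ρ x - 1) := by
    intro a ha w hw
    let t := hR.lift swapAB
    have hsw : ∀ p : Fin 13, (φ t : Perm (Fin 13)) p = (swapAB : Perm (Fin 13)) p := fun p => by
      rw [hR.map_lift]
    have hw' : ρ t w ∈ Module.End.eigenspace Y (ζ ^ a.val) := by
      have e := fiveOp_conj hR (g := t) (τ := tauB) (σ := sigB)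
        (by rw [hR.map_lift, hs4]) (by rw [hR.map_lift, hs3])
      rw [Module.End.mem_eigenspace_iff] at hw ⊢
      show fiveOp hR tauA sigA _ = _
      rw [← e, Module.End.mul_apply, Module.End.mul_apply, inv_apply_apply,
        show fiveOp hR tauB sigB w = _ from hw, map_smul]
    have e2 := hR.rho_conj_C5 t 10 11 12 0 1
    rw [hsw, hsw, hsw, hsw, hsw,
      show ((swapAB : Perm (Fin 13)) 10) = 11 by decide, show ((swapAB : Perm (Fin 13)) 11) = 10 by decide,
      show ((swapAB : Perm (Fin 13)) 12) = 12 by decide, show ((swapAB : Perm (Fin 13)) 0) = 5 by decide,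
      show ((swapAB : Perm (Fin 13)) 1) = 6 by decide] at e2
    have hfix : ρ (hR.C5 11 10 12 5 6) (ρ t w) = ρ t w := by
      refine hscal ?_ ?_ (hscA a ha) _ hw' <;>
      · intro y hy
        rw [hR.map_lift, Perm.mem_support] at hy
        by_contra hyS
        refine hy (cyc_apply_other ?_ ?_ ?_) <;> (rintro rfl; exact hyS (by decide))
    rw [← e2, Module.End.mul_apply, Module.End.mul_apply, inv_apply_apply] at hfix
    rw [LinearMap.mem_ker, LinearMap.sub_apply, Module.End.one_apply, sub_eq_zero, hxx]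
    exact rho_injective t hfix
  let ax : Finset (Fin 2 → Fin 5) :=
    Finset.univ.filter fun s => (s 0 ≠ 0 ∧ s 1 = 0) ∨ (s 0 = 0 ∧ s 1 ≠ 0)
  have hle : (⨆ s ∈ ax, joint T fun i => ζ ^ (s i).val) ≤ LinearMap.ker (ρ x - 1) := by
    refine iSup₂_le fun s hs => ?_
    rcases (Finset.mem_filter.1 hs).2 with ⟨h0, -⟩ | ⟨-, h1⟩
    · exact (iInf_le _ 0).trans (hkA _ h0)
    · exact (iInf_le _ 1).trans (hkB _ h1)
  have hdim := Submodule.finrank_mono hle
  rw [finrank_biSup (iSupIndep_joint hζ hTc), hsumAB] at hdim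
  simp (decide := true) only [Matrix.cons_val_zero, Matrix.cons_val_one, Matrix.cons_val_fin_one,
    Fin.sum_univ_five, if_true, if_false, hclass] at hdim
  have := LinearMap.finrank_range_add_finrank_ker (ρ x - 1)
  show finrank K (LinearMap.range (ρ x - 1)) + 8 * m ≤ _
  omega

end CfsgLib.AltSectESix
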