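import Cfsg.Agent.AltMinDeg.Clifford

/-!
# Spin relations on ten or eleven generators

They give five mutually anticommuting isotropic pairs, so the dimension is divisible by 32.
-/

set_option autoImplicit false
set_option linter.unusedSectionVars false

namespace CfsgLib.AltSectESix

open Module CfsgAltMinDeg

variable {K : Type} [Field K] [IsAlgClosed K] {V : Type} [AddCommGroup V] [Module K V]
  [FiniteDimensional K V]

/-- A non-degenerate plane of operators has an isotropic element with a partner. -/
theorem exists_pair {x y : Module.End K V} {α β γ : K} (hx : x * x = α • 1) (hy : y * y = β • 1)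
    (hxy : ac x y = γ • 1) (h : γ * γ - 4 * α * β ≠ 0) :
    ∃ a b : Module.End K V, a * a = 0 ∧ (∃ c : K, c ≠ 0 ∧ a * b + b * a = c • 1) ∧
      ∀ z, ac x z = 0 → ac y z = 0 → ac a z = 0 ∧ ac b z = 0 := by
  by_cases hβ : β = 0
  · refine ⟨y, x, by rw [hy, hβ, zero_smul], ⟨γ, fun e => h (by rw [hβ, e]; ring), ?_⟩,
      fun z h1 h2 => ⟨h2, h1⟩⟩
    rw [← hxy]; unfold ac; abel
  obtain ⟨c, hc⟩ := IsAlgClosed.exists_root
    (Polynomial.C β * Polynomial.X ^ 2 + Polynomial.C γ * Polynomial.X + Polynomial.C α) (by
      rw [Polynomial.degree_quadratic hβ]; norm_num)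
  simp only [Polynomial.IsRoot.def, Polynomial.eval_add, Polynomial.eval_mul, Polynomial.eval_C,
    Polynomial.eval_pow, Polynomial.eval_X] at hc
  refine ⟨x + c • y, y, ?_, ⟨γ + 2 * c * β, fun e => h ?_, ?_⟩, fun z h1 h2 => ⟨?_, h2⟩⟩
  · rw [sq_add_smul, hx, hy, hxy, smul_smul, smul_smul, ← add_smul, ← add_smul,
      show α + c * γ + c * c * β = 0 by linear_combination hc, zero_smul]
  · linear_combination (γ + 2 * c * β) * e - 4 * β * hc
  · show ac (x + c • y) y = _
    rw [ac_add_left, ac_smul_left, hxy, show ac y y = (2 * β) • (1 : Module.End K V) from ?_,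
      smul_smul, ← add_smul]
    · ring_nf
    · show y * y + y * y = _
      rw [hy]; module
  · rw [ac_add_left, ac_smul_left, h1, h2, smul_zero, add_zero]

/-- A plane of operators. -/
structure Plane (K V : Type) [Field K] [AddCommGroup V] [Module K V] where
  /-- first element -/
  x : Module.End K V
  /-- second element -/
  y : Module.End K V
  α : K
  β : K
  γ : K
  hx : x * x = α • 1
  hy : y * y = β • 1
  hxy : ac x y = γ • 1
  nondeg : γ * γ - 4 * α * β ≠ 0

/-- Two planes anticommute. -/
def Plane.Anti (P Q : Plane K V) : Prop :=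
  (ac P.x Q.x = 0 ∧ ac P.x Q.y = 0) ∧ ac P.y Q.x = 0 ∧ ac P.y Q.y = 0

/-- Mutually anticommuting planes make the dimension divisible by a power of two. -/
theorem two_pow_dvd_of_planes : ∀ L : List (Plane K V), L.Pairwise Plane.Anti →
    2 ^ L.length ∣ finrank K V := by
  intro L hL
  suffices h : ∃ M : List (Module.End K V × Module.End K V), M.length = L.length ∧
      IsotropicPairs M ∧ ∀ p ∈ M, ∀ z, (∀ P ∈ L, ac P.x z = 0 ∧ ac P.y z = 0) →
        ac p.1 z = 0 ∧ ac p.2 z = 0 by
    obtain ⟨M, hM, hi, -⟩ := h
    have := two_pow_dvd M hi ⊤ fun p _ =>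
      ⟨fun _ _ => Submodule.mem_top, fun _ _ => Submodule.mem_top⟩
    rwa [hM, finrank_top] at this
  induction L with
  | nil => exact ⟨[], rfl, trivial, by simp⟩
  | cons P t ih =>
    rw [List.pairwise_cons] at hL
    obtain ⟨M, hlen, hM, hMz⟩ := ih hL.2
    obtain ⟨a, b, haa, hab, hz⟩ := exists_pair P.hx P.hy P.hxy P.nondeg
    refine ⟨(a, b) :: M, by simp [hlen], ⟨haa, hab, fun p hp => ?_, hM⟩, ?_⟩
    · have hswap : ∀ w, ac P.x w = 0 → ac P.y w = 0 → ac w a = 0 := fun w h1 h2 => by
        rw [ac_comm]; exact (hz w h1 h2).1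
      have h := hMz p hp a fun Q hQ => ⟨hswap _ (hL.1 Q hQ).1.1 (hL.1 Q hQ).2.1,
        hswap _ (hL.1 Q hQ).1.2 (hL.1 Q hQ).2.2⟩
      rw [ac_comm p.1, ac_comm p.2] at h
      exact h
    · intro p hp z hzL
      rcases List.mem_cons.1 hp with rfl | hp
      · exact hz z (hzL P List.mem_cons_self).1 (hzL P List.mem_cons_self).2
      · exact hMz p hp z fun Q hQ => hzL Q (List.mem_cons_of_mem _ hQ)

theorem smul_eq_zero_one (c : K) (h : c = 0) : c • (1 : Module.End K V) = 0 := by rw [h, zero_smul]

section

variable {k : ℕ} {g : Fin k → Module.End K V} (h : SpinRel g)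
include h

/-- The plane of two adjacent roots. -/
def rootPlane {i j l : Fin k} (hij : i ≠ j) (hjl : j ≠ l) (hil : i ≠ l) (h3 : (3 : K) ≠ 0) :
    Plane K V where
  x := g i - g j
  y := g j - g l
  α := -1
  β := -1
  γ := 1
  hx := by rw [root_sq h hij, neg_one_smul]
  hy := by rw [root_sq h hjl, neg_one_smul]
  hxy := by
    rw [ac_root h]
    simp [hij, hjl, hil]
  nondeg := fun e => h3 (by linear_combination -e)

/-- The plane of two sums of three roots. -/
def sumPlane (a : Fin 9 → Fin k) (ha : Function.Injective a) (h3 : (3 : K) ≠ 0) : Plane K V where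
  x := (g (a 0) - g (a 3)) + (g (a 1) - g (a 4)) + (g (a 2) - g (a 5))
  y := (g (a 3) - g (a 6)) + (g (a 4) - g (a 7)) + (g (a 5) - g (a 8))
  α := -3
  β := -3
  γ := 3
  hx := by
    simp (decide := true) only [sq_add, root_sq h, ne_eq, ha.eq_iff, ac_add_left, ac_root h,
      if_false, if_true]
    module
  hy := by
    simp (decide := true) only [sq_add, root_sq h, ne_eq, ha.eq_iff, ac_add_left, ac_root h,
      if_false, if_true]
    module
  hxy := by
    simp (decide := true) only [ac_add_left, ac_add_right, ac_root h, ha.eq_iff, if_false, if_true]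
    module
  nondeg := fun e => mul_ne_zero (mul_ne_zero h3 h3) h3 (by linear_combination -e)

end

/-- The sum of the roots from the first nine points to the tenth. -/
def starSum {k : ℕ} (g : Fin k → Module.End K V) (a : Fin 10 → Fin k) : Module.End K V :=
  (g (a 0) - g (a 9)) + (g (a 1) - g (a 9)) + (g (a 2) - g (a 9)) + (g (a 3) - g (a 9)) +
    (g (a 4) - g (a 9)) + (g (a 5) - g (a 9)) + (g (a 6) - g (a 9)) + (g (a 7) - g (a 9)) +
    (g (a 8) - g (a 9))

theorem starSum_sq {k : ℕ} {g : Fin k → Module.End K V} (h : SpinRel g) (a : Fin 10 → Fin k)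
    (ha : Function.Injective a) : starSum g a * starSum g a = (-45 : K) • 1 := by
  simp (decide := true) only [starSum, sq_add, root_sq h, ne_eq, ha.eq_iff, ac_add_left,
    ac_root h, if_false, if_true]
  module

/-- Eleven generators. -/
theorem spin_eleven {g : Fin 11 → Module.End K V} (h : SpinRel g) (h3 : (3 : K) ≠ 0)
    (h11 : (11 : K) ≠ 0) : 32 ∣ finrank K V := by
  let a : Fin 9 → Fin 11 := Fin.castLE (by norm_num)
  let b : Fin 10 → Fin 11 := Fin.castLE (by norm_num)
  let S : Plane K V :=
    { x := g 9 - g 10
      y := starSum g b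
      α := -1
      β := -45
      γ := 9
      hx := by rw [root_sq h (by decide), neg_one_smul]
      hy := starSum_sq h b (Fin.castLE_injective _)
      hxy := by
        simp (decide := true) only [starSum, b, ac_add_right, ac_root h, if_false, if_true]
        module
      nondeg := fun e => mul_ne_zero (mul_ne_zero h3 h3) h11 (by linear_combination -e) }
  have key := two_pow_dvd_of_planes
    [rootPlane h (i := 0) (j := 1) (l := 2) (by decide) (by decide) (by decide) h3,
     rootPlane h (i := 3) (j := 4) (l := 5) (by decide) (by decide) (by decide) h3,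
     rootPlane h (i := 6) (j := 7) (l := 8) (by decide) (by decide) (by decide) h3,
     sumPlane h a (Fin.castLE_injective _) h3, S] (by
      simp only [List.pairwise_cons, List.mem_cons, List.not_mem_nil, or_false, forall_eq_or_imp,
        forall_eq, List.Pairwise.nil, and_true, IsEmpty.forall_iff, implies_true, false_or,
        Plane.Anti, rootPlane, sumPlane, S, a, b, starSum]
      repeat' apply And.intro
      all_goals
        simp (decide := true) only [ac_add_left, ac_add_right, ac_root h, if_false, if_true]
        module)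
  simpa using key

/-- Ten generators. -/
theorem spin_ten {g : Fin 10 → Module.End K V} (h : SpinRel g) (h2 : (2 : K) ≠ 0)
    (h3 : (3 : K) ≠ 0) (h5 : (5 : K) ≠ 0) : 32 ∣ finrank K V := by
  let a : Fin 9 → Fin 10 := Fin.castLE (by norm_num)
  let T := (∑ i, g i) + (5 : K) • 1
  have hTg : ∀ j, ac T (g j) = (-6 : K) • 1 - T := by
    intro j
    have e : ac T (g j) = (∑ i, ac (g i) (g j)) + (10 : K) • g j := by
      simp only [T, ac, add_mul, mul_add, Finset.sum_mul, Finset.mul_sum, Finset.sum_add_distrib,
        smul_mul_assoc, one_mul, mul_smul_comm, mul_one]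
      module
    rw [e]
    simp only [ac_gen h, Finset.sum_sub_distrib, Finset.sum_const, Finset.card_univ, Fintype.card_fin,
      ← Finset.sum_smul, Finset.sum_ite_eq', Finset.mem_univ, if_true, T]
    module
  have hTd : ∀ i j, ac (g i - g j) T = 0 := by
    intro i j
    have e : ac (g i - g j) T = ac T (g i) - ac T (g j) := by
      simp only [ac, sub_mul, mul_sub]; abel
    rw [e, hTg, hTg, sub_self]
  have hTT : T * T = (-30 : K) • 1 := by
    have e : ac T T = (∑ j, ac T (g j)) + (10 : K) • T := by
      conv_lhs => rw [ac_comm]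
      nth_rewrite 1 [show T = (∑ i, g i) + (5 : K) • 1 from rfl]
      simp only [ac, add_mul, mul_add, Finset.sum_mul, Finset.mul_sum, Finset.sum_add_distrib,
        smul_mul_assoc, one_mul, mul_smul_comm, mul_one]
      module
    simp only [hTg, Finset.sum_sub_distrib, Finset.sum_const, Finset.card_univ, Fintype.card_fin] at e
    have e2 : (2 : K) • (T * T) = (2 : K) • ((-30 : K) • 1) := by
      have : ac T T = (2 : K) • (T * T) := by rw [two_smul]; rfl
      rw [← this, e]
      module
    exact smul_right_injective _ h2 e2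
  let S : Plane K V :=
    { x := starSum g id
      y := T
      α := -45
      β := -30
      γ := 0
      hx := starSum_sq h id Function.injective_id
      hy := hTT
      hxy := by simp [starSum, ac_add_left, hTd]
      nondeg := fun e => mul_ne_zero (mul_ne_zero (mul_ne_zero (pow_ne_zero 3 h2) (pow_ne_zero 3 h3))
        h5) h5 (by linear_combination -e) }
  have key := two_pow_dvd_of_planes
    [rootPlane h (i := 0) (j := 1) (l := 2) (by decide) (by decide) (by decide) h3,
     rootPlane h (i := 3) (j := 4) (l := 5) (by decide) (by decide) (by decide) h3,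
     rootPlane h (i := 6) (j := 7) (l := 8) (by decide) (by decide) (by decide) h3,
     sumPlane h a (Fin.castLE_injective _) h3, S] (by
      simp only [List.pairwise_cons, List.mem_cons, List.not_mem_nil, or_false, forall_eq_or_imp,
        forall_eq, List.Pairwise.nil, and_true, IsEmpty.forall_iff, implies_true, false_or,
        Plane.Anti, rootPlane, sumPlane, S, a, starSum, id]
      repeat' apply And.intro
      all_goals
        simp (decide := true) only [ac_add_left, ac_add_right, ac_root h, hTd, if_false, if_true,
          add_zero]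
      all_goals module)
  simpa using key

end CfsgLib.AltSectESix
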