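import Cfsg.Agent.AltSectESix.Frame
import Cfsg.Agent.AltSectESix.Spin

/-!
# Three-cycles on constituents of dimension at most 27

Away from characteristic three the canonical lift of a three-cycle has at most an eighth of the
dimension in each non-trivial eigenspace, in degree twelve or thirteen.
-/

set_option autoImplicit false
set_option linter.unusedSectionVars false
set_option maxHeartbeats 1600000

namespace CfsgLib.AltSectESix

open Module Equiv Equiv.Perm CfsgAltMinDeg

variable {r : ℕ} {K : Type} [Field K] [IsAlgClosed K] {V : Type} [AddCommGroup V] [Module K V]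
  [FiniteDimensional K V]
  {H : Type} [Group H] [Finite H] {ρ : H →* Module.End K V} {φ : H →* alternatingGroup (Fin r)}

/-- The spin relations between fixed-point-free lifts through two common points. -/
theorem spin_relation (hR : IsAltRep ρ φ) (hr : 9 ≤ r) {o o' x y : Fin r}
    (h : [o, o', x, y].Nodup)
    (hA : hR.L o o' x * hR.L o o' x + hR.L o o' x + 1 = 0)
    (hB : hR.L o o' y * hR.L o o' y + hR.L o o' y + 1 = 0) :
    hR.L o o' x * hR.L o o' y + hR.L o o' y * hR.L o o' x + 1 + hR.L o o' x + hR.L o o' y = 0 := by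
  have hx : [o, o', x].Nodup := by simp at h ⊢; grind
  have hy : [o, o', y].Nodup := by simp at h ⊢; grind
  obtain ⟨tx, htx, hLx⟩ := hR.L_eq_rho hr hx
  obtain ⟨ty, hty, hLy⟩ := hR.L_eq_rho hr hy
  simp at h
  have hsq : (cyc o o' x * cyc o o' y) * (cyc o o' x * cyc o o' y) = 1 := by
    apply Subtype.ext
    refine Equiv.ext fun p => ?_
    simp only [Subgroup.coe_mul, Subgroup.coe_one, Perm.mul_apply, Perm.one_apply]
    by_cases h1 : p = o
    · subst h1
      grind [cyc_apply_left, cyc_apply_mid, cyc_apply_right, cyc_apply_other]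
    by_cases h2 : p = o'
    · subst h2
      grind [cyc_apply_left, cyc_apply_mid, cyc_apply_right, cyc_apply_other]
    by_cases h4 : p = x
    · subst h4
      grind [cyc_apply_left, cyc_apply_mid, cyc_apply_right, cyc_apply_other]
    by_cases h5 : p = y
    · subst h5
      grind [cyc_apply_left, cyc_apply_mid, cyc_apply_right, cyc_apply_other]
    grind [cyc_apply_left, cyc_apply_mid, cyc_apply_right, cyc_apply_other]
  obtain ⟨ε, hε⟩ := (hR.scalar_iff (tx * ty * (tx * ty))).mp (by
    rw [map_mul, map_mul, htx, hty, hsq])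
  rw [map_mul, map_mul, ← hLx, ← hLy] at hε
  generalize hR.L o o' x = A at hLx hε hA ⊢
  generalize hR.L o o' y = B at hLy hε hB ⊢
  have hA3 : A * A * A = 1 := by
    rw [← sub_eq_zero]
    calc A * A * A - 1 = A * (A * A + A + 1) - (A * A + A + 1) := by noncomm_ring
      _ = 0 := by rw [hA]; simp
  have hB3 : B * B * B = 1 := by
    rw [← sub_eq_zero]
    calc B * B * B - 1 = B * (B * B + B + 1) - (B * B + B + 1) := by noncomm_ring
      _ = 0 := by rw [hB]; simp
  have hA2 : A * A = -1 - A := by rw [← sub_eq_zero, ← hA]; abel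
  have hB2 : B * B = -1 - B := by rw [← sub_eq_zero, ← hB]; abel
  have hε' : B * A * (B * A) = ε • 1 := by
    calc B * A * (B * A) = A * A * A * (B * A * (B * A)) := by rw [hA3, one_mul]
      _ = A * A * (A * B * (A * B)) * A := by noncomm_ring
      _ = ε • 1 := by rw [hε, mul_smul_comm, mul_one, smul_mul_assoc, hA3]
  have hAB : A * B = ε • ((1 + B) * (1 + A)) := by
    calc A * B = A * B * A * (B * B * B) * (A * A) := by
          rw [hB3, mul_one]; conv_lhs => rw [← mul_one (A * B), ← hA3]
          noncomm_ring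
      _ = A * B * (A * B) * (B * B * (A * A)) := by noncomm_ring
      _ = ε • ((1 + B) * (1 + A)) := by
          rw [hε, hA2, hB2, smul_mul_assoc, one_mul]; congr 1; noncomm_ring
  have hBA : B * A = ε • ((1 + A) * (1 + B)) := by
    calc B * A = B * A * B * (A * A * A) * (B * B) := by
          rw [hA3, mul_one]; conv_lhs => rw [← mul_one (B * A), ← hB3]
          noncomm_ring
      _ = B * A * (B * A) * (A * A * (B * B)) := by noncomm_ring
      _ = ε • ((1 + A) * (1 + B)) := by
          rw [hε', hA2, hB2, smul_mul_assoc, one_mul]; congr 1; noncomm_ring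
  have hε1 : ε = -1 := by
    by_contra hne
    have hdiff : (1 + ε) • (A * B - B * A) = 0 := by
      have : A * B - B * A = ε • (B * A - A * B) := by
        conv_lhs => rw [hAB, hBA, ← smul_sub]
        congr 1
        noncomm_ring
      rw [add_smul, one_smul, ← sub_neg_eq_add, sub_eq_zero, ← smul_neg, neg_sub]
      exact this
    have hcm : A * B = B * A := sub_eq_zero.mp ((smul_eq_zero.mp hdiff).resolve_left
      (fun h => hne (eq_neg_of_add_eq_zero_right h)))
    have hρ : ρ (tx * ty) = ρ (ty * tx) := by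
      rw [map_mul, map_mul, ← hLx, ← hLy, hcm]
    have hφ : φ (tx * ty * (ty * tx)⁻¹) = 1 := (hR.scalar_iff _).mpr ⟨1, by
      rw [map_mul, hρ, ← map_mul, mul_inv_cancel, map_one, one_smul]⟩
    rw [map_mul, map_inv, mul_inv_eq_one, map_mul, map_mul, htx, hty] at hφ
    have hap := congrArg (fun σ : alternatingGroup (Fin r) => σ.1 o) hφ
    simp only [Subgroup.coe_mul, Perm.mul_apply] at hap
    grind [cyc_apply_left, cyc_apply_mid, cyc_apply_right, cyc_apply_other]
  rw [hε1, neg_one_smul] at hAB
  calc A * B + B * A + 1 + A + B = -((1 + B) * (1 + A)) + B * A + 1 + A + B := by rw [hAB]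
    _ = 0 := by noncomm_ring

theorem exists_omega : ∃ ω : K, ω * ω + ω + 1 = 0 := by
  obtain ⟨ω, hω⟩ := IsAlgClosed.exists_root
    (Polynomial.X ^ 2 + Polynomial.X + 1 : Polynomial K) (by
      have : (Polynomial.X ^ 2 + Polynomial.X + 1 : Polynomial K).degree = 2 := by
        compute_degree!
      rw [this]; norm_num)
  exact ⟨ω, by simpa [pow_two] using hω⟩

theorem eigen_dim_eq (hR : IsAltRep ρ φ) (hr : 9 ≤ r) {a b c x y z : Fin r}
    (h : [a, b, c].Nodup) (h' : [x, y, z].Nodup) (μ : K) :
    finrank K (Module.End.eigenspace (hR.L a b c) μ) =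
      finrank K (Module.End.eigenspace (hR.L x y z) μ) := by
  have key : ∀ {a b c x y z : Fin r}, [a, b, c].Nodup → [x, y, z].Nodup →
      finrank K (Module.End.eigenspace (hR.L a b c) μ) ≤
        finrank K (Module.End.eigenspace (hR.L x y z) μ) := by
    intro a b c x y z h h'
    obtain ⟨σ, hσ⟩ := exists_map_fin [a, b, c] [x, y, z] h h' rfl (by simp; omega)
    simp only [List.map_cons, List.map_nil, List.cons.injEq, and_true] at hσ
    obtain ⟨t, ht⟩ := hR.surj σ
    refine LinearMap.finrank_le_finrank_of_injective (f := (ρ t).restrict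
      (p := Module.End.eigenspace (hR.L a b c) μ) (q := Module.End.eigenspace (hR.L x y z) μ)
      (fun u hu => ?_)) (fun u v huv => Subtype.ext (rho_injective t (congrArg Subtype.val huv)))
    rw [Module.End.mem_eigenspace_iff] at hu ⊢
    have := map_eigen_L hR hr t h μ hu
    rwa [ht, hσ.1, hσ.2.1, hσ.2.2] at this
  exact le_antisymm (key h h') (key h' h)

theorem nodup_extend {l : List (Fin r)} (hl : l.Nodup) (F : Fin 3 ↪ Fin r) (hF : ∀ i, F i ∉ l) :
    (l ++ [F 0, F 1, F 2]).Nodup := by
  refine List.nodup_append.2 ⟨hl, nodup_of_embedding F [0, 1, 2] (by decide), ?_⟩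
  intro x hx y hy e
  subst e
  simp only [List.mem_cons, List.not_mem_nil, or_false] at hy
  rcases hy with rfl | rfl | rfl <;> exact hF _ hx

theorem nodup_swap {α : Type} {a b c d e f : α} (h : [a, b, c, d, e, f].Nodup) :
    [d, e, f, a, b, c].Nodup :=
  (List.nodup_append_comm (l₁ := [a, b, c]) (l₂ := [d, e, f])).1 h

theorem nodup_left {α : Type} {a b c : α} {l : List α} (h : ([a, b, c] ++ l).Nodup) :
    [a, b, c].Nodup := h.of_append_left

/-- The bound on the non-trivial eigenspaces of a three-cycle. -/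
theorem factor_three (hR : IsAltRep ρ φ) (hirr : Irred ρ) (hr : r = 12 ∨ r = 13)
    (h3 : (3 : K) ≠ 0) (hspin : (r = 12 → (2 : K) ≠ 0 ∧ (5 : K) ≠ 0) ∧ (r = 13 → (11 : K) ≠ 0))
    (hn : finrank K V ≤ 27) (hpos : 0 < finrank K V) {ω : K} (hω : ω * ω + ω + 1 = 0)
    {a b c : Fin r} (habc : [a, b, c].Nodup) :
    8 * finrank K (Module.End.eigenspace (hR.L a b c) ω) ≤ finrank K V := by
  by_contra hbad
  have hr9 : 9 ≤ r := by omega
  have hζ := primitive_omega h3 hω
  have h3' : ((3 : ℕ) : K) ≠ 0 := by simpa using h3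
  have hω3 := omega_cube hω
  have hshape : ∀ f : Fin 12 ↪ Fin r,
      finrank K (frameSpace hR f ω (patStd 2)) = 0 ∧ finrank K (frameSpace hR f ω (patStd 3)) = 0 ∧
        0 < finrank K (frameSpace hR f ω (patStd 4)) := fun f =>
    (frame_shape hR hr h3 hn hω f).resolve_left fun h => hbad (by
      rwa [frameOp, eigen_dim_eq hR hr9 (triple_nodup f 0) habc ω] at h)
  -- an identity between three disjoint triples
  have hid : ∀ {a b c d e f g i j : Fin r}, [a, b, c, d, e, f, g, i, j].Nodup →
      (hR.L a b c - 1) * (hR.L d e f - 1) * (hR.L g i j * hR.L g i j + hR.L g i j + 1) = 0 := by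
    intro a b c d e f g i j hnd
    obtain ⟨F, hF⟩ := exists_frame (by omega) _ hnd (by simp)
    obtain ⟨h2, h3z, -⟩ := hshape F
    have e0 : frameOp hR F 0 = hR.L a b c := by
      simp only [frameOp]
      rw [hF _ (by simp [pt12]), hF _ (by simp [pt12]), hF _ (by simp [pt12])]
      simp [pt12]
    have e1 : frameOp hR F 1 = hR.L d e f := by
      simp only [frameOp]
      rw [hF _ (by simp [pt12]), hF _ (by simp [pt12]), hF _ (by simp [pt12])]
      simp [pt12]
    have e2 : frameOp hR F 2 = hR.L g i j := by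
      simp only [frameOp]
      rw [hF _ (by simp [pt12]), hF _ (by simp [pt12]), hF _ (by simp [pt12])]
      simp [pt12]
    rw [← e0, ← e1, ← e2]
    refine LinearMap.ext fun v => ?_
    have hv : v ∈ ⨆ s : Pat, frameSpace hR F ω s :=
      iSup_joint hζ h3' (frameOp_commute hR hr9 F) (frameOp_cube hR hr9 F) ▸ Submodule.mem_top
    refine Submodule.iSup_induction (motive := fun v => ((frameOp hR F 0 - 1) *
      (frameOp hR F 1 - 1) * (frameOp hR F 2 * frameOp hR F 2 + frameOp hR F 2 + 1)) v =
        (0 : Module.End K V) v) _ hv (fun s w hw => ?_) (by simp)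
      fun x y hx hy => by rw [map_add, map_add, hx, hy]
    rw [LinearMap.zero_apply]
    by_cases hw2 : patWeight s = 2 ∨ patWeight s = 3
    · have h0 : finrank K (frameSpace hR F ω s) = 0 := by
        rw [pat_eq_std (fun s => finrank K (frameSpace hR F ω s))
          (fun k t => frame_dim_inv hR hr9 F hω3 k t) s]
        rcases hw2 with e | e <;> rw [e]
        exacts [h2, h3z]
      rw [Submodule.finrank_eq_zero.1 h0, Submodule.mem_bot] at hw
      rw [hw, map_zero]
    push Not at hw2
    rw [frameSpace, mem_joint] at hw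
    have hstep : ((frameOp hR F 0 - 1) * (frameOp hR F 1 - 1) *
        (frameOp hR F 2 * frameOp hR F 2 + frameOp hR F 2 + 1)) w =
        ((ω ^ (s 0).val - 1) * (ω ^ (s 1).val - 1) *
          (ω ^ (s 2).val * ω ^ (s 2).val + ω ^ (s 2).val + 1)) • w := by
      simp only [Module.End.mul_apply, LinearMap.add_apply, LinearMap.sub_apply,
        Module.End.one_apply, map_add, map_sub, map_smul, hw 0, hw 1, hw 2, smul_smul]
      match_scalars
      ring
    rw [hstep]
    rcases pat_kill s hw2.1 hw2.2 with e | e | e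
    · simp [e]
    · simp [e]
    · refine smul_eq_zero.2 (Or.inl (mul_eq_zero.2 (Or.inr ?_)))
      rcases (by omega : (s 2).val = 1 ∨ (s 2).val = 2) with h | h <;> rw [h]
      · linear_combination hω
      · linear_combination (ω * ω - ω + 1) * hω
  -- the common kernel
  let D : (a b c d e f : Fin r) → Submodule K V := fun a b c d e f =>
    LinearMap.ker ((hR.L a b c - 1) * (hR.L d e f - 1))
  have hcomm : ∀ {a b c d e f : Fin r}, [a, b, c, d, e, f].Nodup →
      Commute (hR.L a b c) (hR.L d e f) := by
    intro a b c d e f h6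
    obtain ⟨g, hg, hL⟩ := hR.L_eq_rho hr9 (a := a) (b := b) (c := c) (by simp at h6 ⊢; grind)
    rw [hL]
    simp at h6
    refine hR.L_commute hr9 (by simp; grind) ?_ ?_ ?_ <;> rw [hg] <;>
      exact cyc_apply_other (by grind) (by grind) (by grind)
  have hsym : ∀ {a b c d e f : Fin r}, [a, b, c, d, e, f].Nodup → D a b c d e f = D d e f a b c := by
    intro a b c d e f h6
    have hc := ((hcomm h6).sub_left (Commute.one_left _)).sub_right (Commute.one_right _)
    show LinearMap.ker _ = LinearMap.ker _
    rw [hc.eq]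
  have hle : ∀ {a b c d e f g i j : Fin r}, [a, b, c, d, e, f, g, i, j].Nodup →
      D a b c d e f ≤ D a b c g i j := by
    intro a b c d e f g i j hnd v hv
    have hperm : [a, b, c, g, i, j, d, e, f].Nodup := by simp at hnd ⊢; grind
    have h0 := LinearMap.congr_fun (hid hperm) v
    have c1 := hcomm (a := a) (b := b) (c := c) (d := g) (e := i) (f := j) (by simp at hnd ⊢; grind)
    have c2 := hcomm (a := a) (b := b) (c := c) (d := d) (e := e) (f := f) (by simp at hnd ⊢; grind)
    have c3 := hcomm (a := g) (b := i) (c := j) (d := d) (e := e) (f := f) (by simp at hnd ⊢; grind)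
    simp only [D, LinearMap.mem_ker] at hv ⊢
    rw [LinearMap.zero_apply] at h0
    generalize hR.L a b c = x at hv h0 c1 c2 ⊢
    generalize hR.L d e f = y at hv h0 c2 c3
    generalize hR.L g i j = z at h0 c1 c3 ⊢
    have e : (x - 1) * (z - 1) * (y * y + y + 1) =
        (3 : K) • ((x - 1) * (z - 1)) + (z - 1) * (y + 2) * ((x - 1) * (y - 1)) := by
      have k1 : (x - 1) * (z - 1) = (z - 1) * (x - 1) :=
        ((c1.sub_left (Commute.one_left _)).sub_right (Commute.one_right _)).eq
      have k2 : (x - 1) * (y + 2) = (y + 2) * (x - 1) :=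
        ((c2.sub_left (Commute.one_left _)).add_right (Commute.ofNat_right _ 2)).eq
      calc (x - 1) * (z - 1) * (y * y + y + 1)
          = (x - 1) * (z - 1) * ((3 : K) • 1 + (y + 2) * (y - 1)) := by
            rw [show y * y + y + 1 = (3 : K) • 1 + (y + 2) * (y - 1) from ?_]
            rw [show (3 : K) • (1 : Module.End K V) = 1 + 1 + 1 by module,
              show y + 2 = y + 1 + 1 by rw [add_assoc, one_add_one_eq_two]]
            noncomm_ring
        _ = (3 : K) • ((x - 1) * (z - 1)) + (x - 1) * (z - 1) * (y + 2) * (y - 1) := by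
            rw [mul_add, mul_smul_comm, mul_one, ← mul_assoc]
        _ = _ := by
            rw [k1, mul_assoc (z - 1) (x - 1) (y + 2), k2]
            simp only [mul_assoc]
    rw [e, LinearMap.add_apply, Module.End.mul_apply, hv, map_zero, add_zero, LinearMap.smul_apply,
      smul_eq_zero] at h0
    exact h0.resolve_left h3
  have hroot : ∀ {a b c d e f g i j : Fin r}, [a, b, c, d, e, f].Nodup → [a, b, c, g, i, j].Nodup →
      D a b c d e f = D a b c g i j := by
    intro a b c d e f g i j h1 h2
    obtain ⟨F, hF⟩ := exists_avoiding (q := 3) [a, b, c, d, e, f, g, i, j] (by simp; omega)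
    have n1 : [a, b, c, d, e, f, F 0, F 1, F 2].Nodup :=
      nodup_extend h1 F fun k hk => hF k (by simp at hk ⊢; tauto)
    have n2 : [a, b, c, g, i, j, F 0, F 1, F 2].Nodup :=
      nodup_extend h2 F fun k hk => hF k (by simp at hk ⊢; tauto)
    have m1 : [a, b, c, F 0, F 1, F 2, d, e, f].Nodup := by simp at n1 ⊢; grind
    have m2 : [a, b, c, F 0, F 1, F 2, g, i, j].Nodup := by simp at n2 ⊢; grind
    exact (le_antisymm (hle n1) (hle m1)).trans (le_antisymm (hle m2) (hle n2))
  have hall : ∀ {a b c d e f a' b' c' d' e' f' : Fin r}, [a, b, c, d, e, f].Nodup →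
      [a', b', c', d', e', f'].Nodup → D a b c d e f = D a' b' c' d' e' f' := by
    intro a b c d e f a' b' c' d' e' f' h1 h2
    obtain ⟨F, hF⟩ := exists_avoiding (q := 3) [a, b, c, a', b', c'] (by simp; omega)
    have p1 : [a, b, c, F 0, F 1, F 2].Nodup :=
      nodup_extend (l := [a, b, c]) (nodup_left h1) F fun k hk => hF k (by simp at hk ⊢; tauto)
    have p2 : [a', b', c', F 0, F 1, F 2].Nodup :=
      nodup_extend (l := [a', b', c']) (nodup_left h2) F fun k hk => hF k (by simp at hk ⊢; tauto)
    have p1' := nodup_swap p1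
    have p2' := nodup_swap p2
    rw [hroot h1 p1, hsym p1, hroot p1' p2', hsym p2', hroot p2 h2]
  obtain ⟨G, hG⟩ := exists_avoiding (q := 3) [a, b, c] (by simp; omega)
  have h6 : [a, b, c, G 0, G 1, G 2].Nodup := nodup_extend (l := [a, b, c]) habc G hG
  have hinv : ∀ t, ∀ w ∈ D a b c (G 0) (G 1) (G 2), ρ t w ∈ D a b c (G 0) (G 1) (G 2) := by
    intro t w hw
    rw [hall h6 (h6.map (φ t).1.injective)]
    simp only [D, LinearMap.mem_ker] at hw ⊢
    have m1 := hR.L_move hr9 t (a := a) (b := b) (c := c) habc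
    have m2 := hR.L_move hr9 t (a := G 0) (b := G 1) (c := G 2) (nodup_left (nodup_swap h6))
    have m : ρ t * ((hR.L a b c - 1) * (hR.L (G 0) (G 1) (G 2) - 1)) =
        (hR.L ((φ t).1 a) ((φ t).1 b) ((φ t).1 c) - 1) *
          (hR.L ((φ t).1 (G 0)) ((φ t).1 (G 1)) ((φ t).1 (G 2)) - 1) * ρ t := by
      rw [← mul_assoc, mul_sub (ρ t), mul_one, m1]
      rw [show hR.L ((φ t).1 a) ((φ t).1 b) ((φ t).1 c) * ρ t - ρ t =
        (hR.L ((φ t).1 a) ((φ t).1 b) ((φ t).1 c) - 1) * ρ t by rw [sub_mul, one_mul]]
      rw [mul_assoc, mul_sub (ρ t), mul_one, m2,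
        show hR.L ((φ t).1 (G 0)) ((φ t).1 (G 1)) ((φ t).1 (G 2)) * ρ t - ρ t =
        (hR.L ((φ t).1 (G 0)) ((φ t).1 (G 1)) ((φ t).1 (G 2)) - 1) * ρ t by rw [sub_mul, one_mul],
        ← mul_assoc]
    have := LinearMap.congr_fun m w
    rw [Module.End.mul_apply, hw, map_zero, Module.End.mul_apply] at this
    exact this.symm
  rcases hirr _ hinv with hbot | htop
  · -- fixed-point-free
    have hquad : ∀ {x y z : Fin r}, [x, y, z].Nodup →
        hR.L x y z * hR.L x y z + hR.L x y z + 1 = 0 := by
      intro x y z hxyz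
      obtain ⟨G', hG'⟩ := exists_avoiding (q := 3) [x, y, z] (by simp; omega)
      have q6 : [G' 0, G' 1, G' 2, x, y, z].Nodup :=
        nodup_swap (nodup_extend (l := [x, y, z]) hxyz G' hG')
      have hb : D (G' 0) (G' 1) (G' 2) x y z = ⊥ := by rw [hall q6 h6, hbot]
      refine LinearMap.ext fun u => (Submodule.eq_bot_iff _).1 hb _ (LinearMap.mem_ker.2 ?_)
      rw [Module.End.mul_apply, show (hR.L x y z - 1) ((hR.L x y z * hR.L x y z + hR.L x y z + 1) u) =
        ((hR.L x y z ^ 3 : Module.End K V) - 1) u from ?_, hR.L_cube hr9 hxyz, sub_self, LinearMap.zero_apply, map_zero]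
      rw [← Module.End.mul_apply]
      congr 1
      simp only [pow_succ, pow_zero, one_mul]
      noncomm_ring
    let o : Fin r := ⟨0, by omega⟩
    let o' : Fin r := ⟨1, by omega⟩
    have hnd4 : ∀ (k l : ℕ) (hk : k + 2 < r) (hl : l + 2 < r), k ≠ l →
        [o, o', (⟨k + 2, hk⟩ : Fin r), ⟨l + 2, hl⟩].Nodup := fun k l hk hl hkl => by
      simp only [o, o', List.nodup_cons, List.mem_cons, List.not_mem_nil, List.nodup_nil, or_false,
        not_or, Fin.ext_iff, not_false_eq_true, and_true]
      omega
    have hnd3 : ∀ (k : ℕ) (hk : k + 2 < r), [o, o', (⟨k + 2, hk⟩ : Fin r)].Nodup := fun k hk => by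
      simp only [o, o', List.nodup_cons, List.mem_cons, List.not_mem_nil, List.nodup_nil, or_false,
        not_or, Fin.ext_iff, not_false_eq_true, and_true]
      omega
    have h32 : 32 ∣ finrank K V := by
      rcases hr with hr' | hr'
      · let g : Fin 10 → Module.End K V := fun k => hR.L o o' ⟨k.val + 2, by omega⟩
        refine spin_ten (g := g) ⟨fun k => hquad (hnd3 k.val (by omega)), fun k l hkl => ?_⟩
          (hspin.1 hr').1 h3 (hspin.1 hr').2
        exact spin_relation hR hr9
          (hnd4 k.val l.val (by omega) (by omega) (fun h => hkl (Fin.ext h)))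
          (hquad (hnd3 _ (by omega))) (hquad (hnd3 _ (by omega)))
      · let g : Fin 11 → Module.End K V := fun k => hR.L o o' ⟨k.val + 2, by omega⟩
        refine spin_eleven (g := g) ⟨fun k => hquad (hnd3 k.val (by omega)), fun k l hkl => ?_⟩
          h3 (hspin.2 hr')
        exact spin_relation hR hr9
          (hnd4 k.val l.val (by omega) (by omega) (fun h => hkl (Fin.ext h)))
          (hquad (hnd3 _ (by omega))) (hquad (hnd3 _ (by omega)))
    have := Nat.le_of_dvd hpos h32
    omega
  · -- the top weight survives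
    obtain ⟨F, hF⟩ := exists_frame (by omega) [a, b, c] habc (by simp)
    obtain ⟨v, hv, hv0⟩ := (Submodule.ne_bot_iff _).1 (fun e : frameSpace hR F ω (patStd 4) = ⊥ => by
      have := (hshape F).2.2; rw [e, finrank_bot] at this; omega)
    rw [frameSpace, mem_joint] at hv
    have h6' : [F (pt12 0 0), F (pt12 0 1), F (pt12 0 2), F (pt12 1 0), F (pt12 1 1),
        F (pt12 1 2)].Nodup :=
      nodup_of_embedding F [pt12 0 0, pt12 0 1, pt12 0 2, pt12 1 0, pt12 1 1, pt12 1 2] (by decide)
    have hmem : v ∈ D (F (pt12 0 0)) (F (pt12 0 1)) (F (pt12 0 2)) (F (pt12 1 0)) (F (pt12 1 1))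
        (F (pt12 1 2)) := by
      rw [hall h6' h6, htop]; exact Submodule.mem_top
    have hv0' : frameOp hR F 0 v = ω • v := by simpa [patStd] using hv 0
    have hv1' : frameOp hR F 1 v = ω • v := by simpa [patStd] using hv 1
    change ((frameOp hR F 0 - 1) * (frameOp hR F 1 - 1)) v = 0 at hmem
    simp only [Module.End.mul_apply, LinearMap.sub_apply, Module.End.one_apply, hv1', map_sub,
      map_smul, hv0', smul_smul] at hmem
    have : ((ω - 1) * (ω - 1)) • v = 0 := by
      rw [← hmem]; module
    exact mul_ne_zero (sub_ne_zero.2 (omega_ne_one h3 hω)) (sub_ne_zero.2 (omega_ne_one h3 hω))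
      ((smul_eq_zero.1 this).resolve_right hv0)

end CfsgLib.AltSectESix
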