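import Mathlib

/-!
# Trilinear forms whose contractions have rank at least ten

A symmetric trilinear form `B` on a space `V` in which every `B u`, for `u ≠ 0`, has rank at least
ten admits no isometry moving too small a subspace.
-/

set_option autoImplicit false
set_option linter.unusedSectionVars false

namespace CfsgLib.AltSectESix

open Module

variable {K : Type} [Field K] {V : Type} [AddCommGroup V] [Module K V] [FiniteDimensional K V]

/-- A symmetric trilinear form with contractions of rank at least ten. -/
structure CubeForm (K V : Type) [Field K] [AddCommGroup V] [Module K V] where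
  /-- the form -/
  B : V →ₗ[K] V →ₗ[K] Dual K V
  symm₁ : ∀ u v w, B u v w = B v u w
  symm₂ : ∀ u v w, B u v w = B u w v
  ten_le : ∀ u, u ≠ 0 → 10 ≤ finrank K (LinearMap.range (B u))

/-- An endomorphism preserves the form. -/
def CubeForm.Pres (C : CubeForm K V) (g : Module.End K V) : Prop :=
  ∀ u v w, C.B (g u) (g v) (g w) = C.B u v w

/-- The image of `U` under a bilinear form killing `U × Z` is no larger than a supplement of `Z`. -/
theorem finrank_map_le (q : V →ₗ[K] Dual K V) (U Y Z : Submodule K V) (htop : Z ⊔ Y = ⊤)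
    (h : ∀ a ∈ U, ∀ b ∈ Z, q a b = 0) : finrank K (U.map q) ≤ finrank K Y := by
  let r : ↥(U.map q) →ₗ[K] Dual K Y :=
    { toFun := fun f => (f : Dual K V).comp Y.subtype
      map_add' := fun f f' => by ext; simp
      map_smul' := fun c f => by ext; simp }
  have hr : Function.Injective r := by
    intro f f' hf
    obtain ⟨a, ha, hfa⟩ := (f - f').2
    refine sub_eq_zero.1 (Subtype.ext (LinearMap.ext fun v => ?_))
    obtain ⟨z, hz, y, hy, rfl⟩ :=
      Submodule.mem_sup.1 (htop.symm ▸ Submodule.mem_top : v ∈ Z ⊔ Y)
    have e : (((f - f' : ↥(U.map q)) : Dual K V)) y = 0 := by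
      have := LinearMap.congr_fun hf ⟨y, hy⟩
      simpa [r, sub_eq_zero] using this
    show (((f - f' : ↥(U.map q)) : Dual K V)) (z + y) = 0
    rw [map_add, e, add_zero, ← hfa]
    exact h a ha z hz
  exact (LinearMap.finrank_le_finrank_of_injective hr).trans Subspace.dual_finrank_eq.le

theorem finrank_iSup_finset_le {ι : Type*} (s : Finset ι) (W : ι → Submodule K V) :
    finrank K (s.sup W : Submodule K V) ≤ ∑ i ∈ s, finrank K (W i) := by
  classical
  induction s using Finset.induction_on with
  | empty => simp
  | @insert a s ha ih =>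
    rw [Finset.sup_insert, Finset.sum_insert ha]
    exact (Submodule.finrank_add_le_finrank_add_finrank _ _).trans (Nat.add_le_add_left ih _)

/-- The rank of a form on a sum is at most the sum of the ranks on the summands. -/
theorem finrank_range_le {ι : Type*} [Fintype ι] (q : V →ₗ[K] Dual K V) (W : ι → Submodule K V)
    (htop : ⨆ i, W i = ⊤) :
    finrank K (LinearMap.range q) ≤ ∑ i, finrank K ((W i).map q) := by
  rw [LinearMap.range_eq_map, ← htop, Submodule.map_iSup]
  have e : (⨆ i, (W i).map q) = Finset.univ.sup fun i => (W i).map q := by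
    rw [Finset.sup_eq_iSup]; simp
  rw [e]
  have h : FiniteDimensional K (Dual K V) := inferInstance
  exact finrank_iSup_finset_le (V := Dual K V) Finset.univ _

/-- An isometry moving at most four dimensions is trivial. -/
theorem eq_one_of_rank_le (C : CubeForm K V) {g : Module.End K V} (hg : C.Pres g)
    (h : finrank K (LinearMap.range (g - 1)) ≤ 4) : g = 1 := by
  by_contra hne
  obtain ⟨v, hv⟩ : ∃ v, (g - 1) v ≠ 0 := by
    by_contra hc
    push Not at hc
    exact hne (sub_eq_zero.1 (LinearMap.ext hc))
  let U := LinearMap.ker (g - 1)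
  obtain ⟨Y, hY⟩ := U.exists_isCompl
  have hYd : finrank K Y ≤ 4 := by
    have h1 := LinearMap.finrank_range_add_finrank_ker (g - 1)
    have h2 : finrank K (LinearMap.ker (g - 1)) + finrank K Y = finrank K V :=
      Submodule.finrank_add_eq_of_isCompl hY
    omega
  have hfix : ∀ a ∈ U, g a = a := fun a ha => by
    have := LinearMap.mem_ker.1 ha
    rwa [LinearMap.sub_apply, Module.End.one_apply, sub_eq_zero] at this
  have hkill : ∀ a ∈ U, ∀ b ∈ U, C.B ((g - 1) v) a b = 0 := fun a ha b hb => by
    have := hg v a b
    rw [hfix a ha, hfix b hb] at this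
    simp [this]
  have hU : finrank K (U.map (C.B ((g - 1) v))) ≤ finrank K Y :=
    finrank_map_le _ U Y U hY.sup_eq_top hkill
  have hYle : finrank K (Y.map (C.B ((g - 1) v))) ≤ finrank K Y := Submodule.finrank_map_le _ _
  have hb := finrank_range_le (C.B ((g - 1) v)) (fun i : Bool => cond i U Y)
    (by rw [iSup_bool_eq]; exact hY.sup_eq_top)
  rw [Fintype.sum_bool] at hb
  simp only [cond_true, cond_false] at hb
  have := C.ten_le _ hv
  omega

/-- Eigenvectors whose eigenvalues do not multiply to one are orthogonal. -/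
theorem apply_eq_zero (C : CubeForm K V) {g : Module.End K V} (hg : C.Pres g) {a b c : K}
    {u v w : V} (hu : g u = a • u) (hv : g v = b • v) (hw : g w = c • w) (h : a * b * c ≠ 1) :
    C.B u v w = 0 := by
  have e := hg u v w
  rw [hu, hv, hw] at e
  simp only [map_smul, LinearMap.smul_apply, smul_eq_mul] at e
  have : (a * b * c - 1) * C.B u v w = 0 := by linear_combination e
  exact (mul_eq_zero.1 this).resolve_left (sub_ne_zero.2 h)

/-- Bilinear vanishing passes to a span. -/
theorem apply_eq_zero_of_iSup {ι : Type*} (q : V →ₗ[K] Dual K V) {a : V}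
    (W : ι → Submodule K V) {P : ι → Prop} (h : ∀ i, P i → ∀ b ∈ W i, q a b = 0) {b : V}
    (hb : b ∈ ⨆ (i) (_ : P i), W i) : q a b = 0 := by
  have hle : (⨆ (i) (_ : P i), W i) ≤ LinearMap.ker (q a) :=
    iSup₂_le fun i hi x hx => LinearMap.mem_ker.2 (h i hi x hx)
  exact LinearMap.mem_ker.1 (hle hb)

/-- The rank at an eigenvector is bounded by the dimensions of the mates. -/
theorem finrank_range_le_mates {ι : Type*} [Fintype ι] (q : V →ₗ[K] Dual K V)
    (W : ι → Submodule K V) (htop : ⨆ i, W i = ⊤) (mate : ι → ι)
    (h : ∀ i j, j ≠ mate i → ∀ a ∈ W i, ∀ b ∈ W j, q a b = 0) (f : ι → ℕ)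
    (hf : ∀ i, f i = finrank K (W i) ∨ f i = finrank K (W (mate i))) :
    finrank K (LinearMap.range q) ≤ ∑ i, f i := by
  classical
  refine (finrank_range_le q W htop).trans (Finset.sum_le_sum fun i _ => ?_)
  rcases hf i with e | e <;> rw [e]
  · exact Submodule.finrank_map_le _ _
  · refine finrank_map_le q (W i) (W (mate i)) (⨆ (j) (_ : j ≠ mate i), W j) ?_ fun a ha b hb =>
      apply_eq_zero_of_iSup q W (fun j hj b hb => h i j hj a ha b hb) hb
    rw [eq_top_iff, ← htop]
    refine iSup_le fun j => ?_
    by_cases hj : j = mate i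
    · exact hj ▸ le_sup_right
    · exact le_sup_of_le_left (le_iSup₂_of_le j hj le_rfl)

end CfsgLib.AltSectESix
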