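import Mathlib

/-!
# Weights of four disjoint triples

The eigenvalue patterns of four commuting operators of order three, up to signed permutations of
the four of even type, are classified by the number of non-trivial entries.
-/

set_option autoImplicit false

namespace CfsgLib.AltSectESix

/-- A pattern of eigenvalue exponents. -/
abbrev Pat : Type := Fin 4 → Fin 3

/-- Generators of the symmetries of the patterns. -/
def patGen : Fin 4 → Pat → Pat
  | 0 => fun s => ![-(s 0), -(s 1), s 2, s 3]
  | 1 => fun s => ![-(s 0), s 2, s 1, s 3]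
  | 2 => fun s => ![s 2, s 0, s 1, s 3]
  | 3 => fun s => ![s 0, s 3, s 1, s 2]

/-- The number of non-trivial entries. -/
def patWeight (s : Pat) : Fin 5 :=
  ⟨(Finset.univ.filter fun i => s i ≠ 0).card, by
    have := Finset.card_filter_le (Finset.univ : Finset (Fin 4)) fun i => s i ≠ 0
    simp only [Finset.card_univ, Fintype.card_fin] at this
    omega⟩

/-- The standard pattern of a weight. -/
def patStd (k : Fin 5) : Pat := fun i => if i.val < k.val then 1 else 0

/-- Patterns reached in a number of steps. -/
def patReach (s₀ : Pat) : ℕ → List Pat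
  | 0 => [s₀]
  | n + 1 =>
    let l := patReach s₀ n
    (l ++ l.map (patGen 0) ++ l.map (patGen 1) ++ l.map (patGen 2) ++ l.map (patGen 3)).dedup

theorem patReach_inv {α : Type} (d : Pat → α) (hd : ∀ i s, d (patGen i s) = d s) (s₀ : Pat) :
    ∀ n, ∀ s ∈ patReach s₀ n, d s = d s₀ := by
  intro n
  induction n with
  | zero => intro s hs; rw [patReach, List.mem_singleton] at hs; rw [hs]
  | succ n ih =>
    intro s hs
    simp only [patReach, List.mem_dedup, List.mem_append, List.mem_map] at hs
    rcases hs with (((h | ⟨t, ht, rfl⟩) | ⟨t, ht, rfl⟩) | ⟨t, ht, rfl⟩) | ⟨t, ht, rfl⟩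
    · exact ih s h
    all_goals rw [hd]; exact ih t ht

theorem patGen_bijective : ∀ i, Function.Bijective (patGen i) := by
  intro i
  refine (Finite.injective_iff_bijective).1 fun s t h => ?_
  fin_cases i <;>
  · funext j
    have h0 := congrFun h 0
    have h1 := congrFun h 1
    have h2 := congrFun h 2
    have h3 := congrFun h 3
    simp [patGen] at h0 h1 h2 h3
    fin_cases j <;> assumption

theorem patReach_count :
    (fun k => ((patReach (patStd k) 5).length, (patReach (patStd k) 5).all fun s => patWeight s == k)) =
      fun k => (![1, 8, 24, 32, 16] k, true) := by decide +kernel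

theorem pat_count_all :
    (fun k => (Finset.univ.filter fun s : Pat => patWeight s = k).card) = ![1, 8, 24, 32, 16] := by
  decide +kernel

theorem patReach_nodup (s₀ : Pat) : ∀ n, (patReach s₀ n).Nodup
  | 0 => List.nodup_singleton _
  | _ + 1 => List.nodup_dedup _

theorem patReach_all (s : Pat) : s ∈ patReach (patStd (patWeight s)) 5 := by
  have h := congrFun patReach_count (patWeight s)
  simp only [Prod.mk.injEq, List.all_eq_true, beq_iff_eq] at h
  have heq : (patReach (patStd (patWeight s)) 5).toFinset =
      Finset.univ.filter fun t : Pat => patWeight t = patWeight s := by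
    refine Finset.eq_of_subset_of_card_le (fun t ht => ?_) ?_
    · exact Finset.mem_filter.2 ⟨Finset.mem_univ t, h.2 t (List.mem_toFinset.1 ht)⟩
    · rw [List.toFinset_card_of_nodup (patReach_nodup _ _), h.1, ← congrFun pat_count_all]
  rw [← List.mem_toFinset, heq]
  exact Finset.mem_filter.2 ⟨Finset.mem_univ s, rfl⟩

/-- An invariant function depends only on the weight. -/
theorem pat_eq_std {α : Type} (d : Pat → α) (hd : ∀ i s, d (patGen i s) = d s) (s : Pat) :
    d s = d (patStd (patWeight s)) :=
  patReach_inv d hd _ _ s (patReach_all s)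

theorem pat_count_first :
    (fun k => ((Finset.univ.filter fun s : Pat => s 0 = 1).filter fun s => patWeight s = k).card) =
      ![0, 1, 6, 12, 8] := by
  decide +kernel

theorem pat_count_zero :
    (fun k => ((Finset.univ.filter fun s : Pat => s 0 = 0).filter fun s => patWeight s = k).card) =
      ![1, 6, 12, 8, 0] := by
  decide +kernel

theorem pat_kill : ∀ s : Pat, patWeight s ≠ 2 → patWeight s ≠ 3 → s 0 = 0 ∨ s 1 = 0 ∨ s 2 ≠ 0 := by
  decide +kernel

/-- Sums of an invariant function. -/
theorem pat_sum (d : Pat → ℕ) (hd : ∀ i s, d (patGen i s) = d s) (S : Finset Pat) :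
    ∑ s ∈ S, d s = ∑ k : Fin 5, (S.filter fun s => patWeight s = k).card * d (patStd k) := by
  rw [← Finset.sum_fiberwise S patWeight]
  refine Finset.sum_congr rfl fun k _ => ?_
  rw [← smul_eq_mul, ← Finset.sum_const]
  refine Finset.sum_congr rfl fun s hs => ?_
  rw [pat_eq_std d hd s, (Finset.mem_filter.1 hs).2]

end CfsgLib.AltSectESix
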