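import Cfsg.Agent.AltSectESix.Lifts
import Cfsg.Agent.AltSectESix.Patterns
import Cfsg.Agent.AltMinDeg.Coprime

/-!
# Four disjoint three-cycles in a representation with scalar kernel

The joint eigenspaces of the four canonical lifts have dimensions depending only on the number of
non-trivial eigenvalues; a restriction to the points outside one triple leaves only two shapes.
-/

set_option autoImplicit false
set_option linter.unusedSectionVars false

namespace CfsgLib.AltSectESix

open Module Equiv Equiv.Perm CfsgAltMinDeg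

variable {r : ℕ} {K : Type} [Field K] [IsAlgClosed K] {V : Type} [AddCommGroup V] [Module K V]
  [FiniteDimensional K V]
  {H : Type} [Group H] [Finite H] {ρ : H →* Module.End K V} {φ : H →* alternatingGroup (Fin r)}

/-- The `j`-th point of the `i`-th triple. -/
def pt12 (i : Fin 4) (j : Fin 3) : Fin 12 := ⟨3 * i.val + j.val, by omega⟩

theorem pt12_nodup : ∀ i : Fin 4, [pt12 i 0, pt12 i 1, pt12 i 2].Nodup := by decide

theorem pt12_apart : ∀ i i' : Fin 4, i ≠ i' → ∀ j j' : Fin 3, pt12 i j ≠ pt12 i' j' := by decide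

theorem triple_nodup (f : Fin 12 ↪ Fin r) (i : Fin 4) :
    [f (pt12 i 0), f (pt12 i 1), f (pt12 i 2)].Nodup :=
  nodup_of_embedding f [pt12 i 0, pt12 i 1, pt12 i 2] (pt12_nodup i)

/-- The four operators of a frame. -/
noncomputable def frameOp (hR : IsAltRep ρ φ) (f : Fin 12 ↪ Fin r) (i : Fin 4) : Module.End K V :=
  hR.L (f (pt12 i 0)) (f (pt12 i 1)) (f (pt12 i 2))

theorem frameOp_cube (hR : IsAltRep ρ φ) (hr : 9 ≤ r) (f : Fin 12 ↪ Fin r) (i : Fin 4) :
    frameOp hR f i ^ 3 = 1 :=
  hR.L_cube hr (triple_nodup f i)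

theorem frameOp_commute (hR : IsAltRep ρ φ) (hr : 9 ≤ r) (f : Fin 12 ↪ Fin r) (i j : Fin 4) :
    Commute (frameOp hR f i) (frameOp hR f j) := by
  rcases eq_or_ne i j with rfl | hne
  · exact Commute.refl _
  obtain ⟨g, hg, hL⟩ := hR.L_eq_rho hr (triple_nodup f i)
  rw [frameOp, hL]
  refine hR.L_commute hr (triple_nodup f j) ?_ ?_ ?_ <;> rw [hg] <;>
    exact cyc_apply_other (f.injective.ne (pt12_apart j i hne.symm _ _))
      (f.injective.ne (pt12_apart j i hne.symm _ _)) (f.injective.ne (pt12_apart j i hne.symm _ _))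

/-- The joint eigenspace of a pattern. -/
noncomputable def frameSpace (hR : IsAltRep ρ φ) (f : Fin 12 ↪ Fin r) (ω : K) (s : Pat) :
    Submodule K V :=
  joint (frameOp hR f) fun i => ω ^ (s i).val

theorem primitive_omega (h3 : (3 : K) ≠ 0) {ω : K} (hω : ω * ω + ω + 1 = 0) :
    IsPrimitiveRoot ω 3 := by
  haveI := Fact.mk Nat.prime_three
  rw [← orderOf_eq_prime (omega_cube hω) (omega_ne_one h3 hω)]
  exact IsPrimitiveRoot.orderOf ω

theorem neg_mul_pow_fin3 {ω : K} (hω : ω ^ 3 = 1) (k : Fin 3) :
    ω ^ (-k).val * ω ^ k.val = 1 := by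
  fin_cases k
  · simp
  · show ω ^ 2 * ω ^ 1 = 1
    rw [← hω]; ring
  · show ω ^ 1 * ω ^ 2 = 1
    rw [← hω]; ring

/-- A permutation of the frame carries joint eigenspaces into joint eigenspaces. -/
theorem frameSpace_move (hR : IsAltRep ρ φ) (hr : 9 ≤ r) (f : Fin 12 ↪ Fin r) {ω : K}
    (hω : ω ^ 3 = 1) (π : alternatingGroup (Fin 12)) (τ : Fin 4 → Fin 4) (e : Fin 4 → Bool)
    (hτ : Function.Surjective τ)
    (hπ : ∀ i j, (π : Perm (Fin 12)) (pt12 i j) = pt12 (τ i) (if e i then -j else j)) (s s' : Pat)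
    (hs : ∀ i, s' (τ i) = if e i then -(s i) else s i) :
    finrank K (frameSpace hR f ω s) ≤ finrank K (frameSpace hR f ω s') := by
  obtain ⟨t, ht⟩ := hR.surj (embA f π)
  refine LinearMap.finrank_le_finrank_of_injective
    (f := (ρ t).restrict (p := frameSpace hR f ω s) (q := frameSpace hR f ω s') fun v hv => ?_)
    fun u v huv => Subtype.ext (rho_injective t (congrArg Subtype.val huv))
  rw [frameSpace, mem_joint] at hv ⊢
  intro i'
  obtain ⟨i, rfl⟩ := hτ i'
  have h := map_eigen_L hR hr t (triple_nodup f i) (ω ^ (s i).val) (hv i)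
  rw [ht, embA_apply, embA_apply, embA_apply, hπ, hπ, hπ] at h
  rw [hs]
  by_cases he : e i
  · simp only [he, if_true] at h ⊢
    rw [show (-(0 : Fin 3)) = 0 from rfl, show (-(1 : Fin 3)) = 2 from rfl,
      show (-(2 : Fin 3)) = 1 from rfl] at h
    have hn : [f (pt12 (τ i) 0), f (pt12 (τ i) 2), f (pt12 (τ i) 1)].Nodup := by
      have := triple_nodup f (τ i)
      simp at this ⊢; grind
    have h2 := LinearMap.congr_fun (hR.L_swap hr hn) (ρ t v)
    rw [Module.End.mul_apply, h, map_smul, Module.End.one_apply] at h2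
    calc frameOp hR f (τ i) (ρ t v)
        = (ω ^ (-(s i)).val * ω ^ (s i).val) • frameOp hR f (τ i) (ρ t v) := by
          rw [neg_mul_pow_fin3 hω, one_smul]
      _ = ω ^ (-(s i)).val • ρ t v := by rw [mul_smul, frameOp, h2]
  · simp only [he, if_false, Bool.false_eq_true] at h ⊢
    exact h

/-- Flips the first two triples. -/
def framePerm0 : alternatingGroup (Fin 12) :=
  ⟨swap 1 2 * swap 4 5, by rw [mem_alternatingGroup]; decide⟩

/-- Flips the first triple and exchanges the next two. -/
def framePerm1 : alternatingGroup (Fin 12) :=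
  ⟨swap 1 2 * swap 3 6 * swap 4 7 * swap 5 8, by rw [mem_alternatingGroup]; decide⟩

/-- Rotates the first three triples. -/
def framePerm2 : alternatingGroup (Fin 12) := cyc 0 3 6 * cyc 1 4 7 * cyc 2 5 8

/-- Rotates the last three triples. -/
def framePerm3 : alternatingGroup (Fin 12) := cyc 3 6 9 * cyc 4 7 10 * cyc 5 8 11

theorem framePerm0_spec : ∀ i j, (framePerm0 : Perm (Fin 12)) (pt12 i j) =
    pt12 (![0, 1, 2, 3] i) (if ![true, true, false, false] i then -j else j) := by decide

theorem framePerm1_spec : ∀ i j, (framePerm1 : Perm (Fin 12)) (pt12 i j) =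
    pt12 (![0, 2, 1, 3] i) (if ![true, false, false, false] i then -j else j) := by decide

theorem framePerm2_spec : ∀ i j, (framePerm2 : Perm (Fin 12)) (pt12 i j) =
    pt12 (![1, 2, 0, 3] i) (if ![false, false, false, false] i then -j else j) := by decide

theorem framePerm3_spec : ∀ i j, (framePerm3 : Perm (Fin 12)) (pt12 i j) =
    pt12 (![0, 2, 3, 1] i) (if ![false, false, false, false] i then -j else j) := by decide

theorem frame_dim_inv (hR : IsAltRep ρ φ) (hr : 9 ≤ r) (f : Fin 12 ↪ Fin r) {ω : K}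
    (hω : ω ^ 3 = 1) (k : Fin 4) (s : Pat) :
    finrank K (frameSpace hR f ω (patGen k s)) = finrank K (frameSpace hR f ω s) := by
  have hle : ∀ (k : Fin 4) (s : Pat),
      finrank K (frameSpace hR f ω s) ≤ finrank K (frameSpace hR f ω (patGen k s)) := by
    intro k s
    fin_cases k
    · exact frameSpace_move hR hr f hω framePerm0 _ _ (by decide) framePerm0_spec _ _
        (fun i => by fin_cases i <;> rfl)
    · exact frameSpace_move hR hr f hω framePerm1 _ _ (by decide) framePerm1_spec _ _
        (fun i => by fin_cases i <;> rfl)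
    · exact frameSpace_move hR hr f hω framePerm2 _ _ (by decide) framePerm2_spec _ _
        (fun i => by fin_cases i <;> rfl)
    · exact frameSpace_move hR hr f hω framePerm3 _ _ (by decide) framePerm3_spec _ _
        (fun i => by fin_cases i <;> rfl)
  exact ((Finset.sum_eq_sum_iff_of_le (f := fun s => finrank K (frameSpace hR f ω s))
    (g := fun s => finrank K (frameSpace hR f ω (patGen k s))) fun s _ => hle k s).1
      ((Fintype.sum_bijective (patGen k) (patGen_bijective k) _ _ fun _ => rfl).symm)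
      s (Finset.mem_univ s)).symm

/-- The two shapes of a frame. -/
theorem frame_shape (hR : IsAltRep ρ φ) (hr : r = 12 ∨ r = 13) (h3 : (3 : K) ≠ 0)
    (hn : finrank K V ≤ 27) {ω : K} (hω : ω * ω + ω + 1 = 0) (f : Fin 12 ↪ Fin r) :
    8 * finrank K (Module.End.eigenspace (frameOp hR f 0) ω) ≤ finrank K V ∨
      finrank K (frameSpace hR f ω (patStd 2)) = 0 ∧ finrank K (frameSpace hR f ω (patStd 3)) = 0 ∧
        0 < finrank K (frameSpace hR f ω (patStd 4)) := by
  have hr9 : 9 ≤ r := by omega
  have hζ := primitive_omega h3 hω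
  have h3' : ((3 : ℕ) : K) ≠ 0 := by simpa using h3
  have hω3 := omega_cube hω
  let d : Pat → ℕ := fun s => finrank K (frameSpace hR f ω s)
  have hd : ∀ k s, d (patGen k s) = d s := fun k s => frame_dim_inv hR hr9 f hω3 k s
  have hsum : ∑ s, d s = finrank K V :=
    sum_joint hζ h3' (frameOp_commute hR hr9 f) (frameOp_cube hR hr9 f)
  have hfirst : ∑ s : Pat with s 0 = 1, d s =
      finrank K (Module.End.eigenspace (frameOp hR f 0) ω) := by
    have h := sum_joint_eigen hζ h3' (frameOp_commute hR hr9 f) (frameOp_cube hR hr9 f) 0 (1 : Fin 3)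
    rw [show ω ^ ((1 : Fin 3).val) = ω from pow_one ω] at h
    exact h
  rw [pat_sum d hd] at hsum hfirst
  have c1 := fun k => congrFun pat_count_all k
  have c2 := fun k => congrFun pat_count_first k
  simp only [c1, c2, Fin.sum_univ_five] at hsum hfirst
  simp at hsum hfirst
  change _ ∨ d (patStd 2) = 0 ∧ d (patStd 3) = 0 ∧ 0 < d (patStd 4)
  by_cases h0 : d (patStd 2) = 0 ∧ d (patStd 3) = 0 ∧ d (patStd 4) = 0
  · left; omega
  -- two of the operators are non-trivial somewhere
  obtain ⟨k, hk2, hk⟩ : ∃ k : Fin 5, 2 ≤ k.val ∧ d (patStd k) ≠ 0 := by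
    by_contra hc
    push Not at hc
    exact h0 ⟨hc 2 le_rfl, hc 3 (by decide), hc 4 (by decide)⟩
  obtain ⟨v, hv, hv0⟩ := (Submodule.ne_bot_iff _).1 (fun e : frameSpace hR f ω (patStd k) = ⊥ =>
    hk (by show finrank K (frameSpace hR f ω (patStd k)) = 0; rw [e, finrank_bot]))
  rw [frameSpace, mem_joint] at hv
  have hv0' := hv 0
  have hv1' := hv 1
  have e0 : patStd k 0 = 1 := by rw [patStd, if_pos (by simp; omega)]
  have e1 : patStd k 1 = 1 := by rw [patStd, if_pos (by simp; omega)]
  rw [e0, show ω ^ ((1 : Fin 3).val) = ω from pow_one ω] at hv0'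
  rw [e1, show ω ^ ((1 : Fin 3).val) = ω from pow_one ω] at hv1'
  let a := f (pt12 0 0)
  let b := f (pt12 0 1)
  let c := f (pt12 0 2)
  have habc : [a, b, c].Nodup := triple_nodup f 0
  let S : Finset (Fin r) := ({a, b, c} : Finset (Fin r))ᶜ
  have hS : S.card = r - 3 := by
    simp at habc
    rw [Finset.card_compl, Fintype.card_fin, Finset.card_insert_of_notMem (by simp; grind),
      Finset.card_pair (by grind)]
  let W := Module.End.eigenspace (hR.L a b c) ω
  have hvW : v ∈ W := Module.End.mem_eigenspace_iff.2 hv0'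
  obtain ⟨P, ρ', φ', hR', -⟩ := hR.restrict_subset S (by omega) W
    (fun h hh w hw => invariant_eigen hR hr9 habc ω h hh w hw) (by
      by_contra hcon
      push Not at hcon
      have hin : ∀ j : Fin 3, f (pt12 1 j) ∈ S := by
        intro j
        simp only [S, Finset.mem_compl, Finset.mem_insert, Finset.mem_singleton, not_or]
        exact ⟨f.injective.ne (pt12_apart 1 0 (by decide) j 0),
          f.injective.ne (pt12_apart 1 0 (by decide) j 1),
          f.injective.ne (pt12_apart 1 0 (by decide) j 2)⟩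
      have h := L_trivial_of_scalars hR hr9 S (by omega) W hcon (triple_nodup f 1) (hin 0) (hin 1)
        (hin 2) v hvW
      rw [show hR.L _ _ _ v = ω • v from hv1'] at h
      exact omega_ne_one h3 hω (smul_left_injective K hv0 (h.trans (one_smul K v).symm)))
  have hgood := CfsgAltMinDeg.good S.card (by omega) K W P ρ' φ' hR'.surj
    fun x hx => (hR'.scalar_iff x).mpr ⟨1, by rw [MonoidHom.mem_ker.mp hx, one_smul]⟩
  have hm8 : 8 ≤ finrank K W := by
    obtain ⟨hb1, hb2⟩ := hgood
    rcases hr with rfl | rfl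
    · have := hb2 (by
        rw [hS]
        intro e
        exact mul_ne_zero h3 h3 (by push_cast at e; linear_combination e))
      omega
    · omega
  have hW : finrank K W = finrank K (Module.End.eigenspace (frameOp hR f 0) ω) := rfl
  omega

theorem exists_frame (hr : 12 ≤ r) (l : List (Fin r)) (hl : l.Nodup) (hlen : l.length ≤ 12) :
    ∃ f : Fin 12 ↪ Fin r, ∀ (k : Fin 12) (hk : k.val < l.length), f k = l[k.val] := by
  obtain ⟨g, hg⟩ := exists_avoiding (q := 12 - l.length) l (by omega)
  let F : Fin 12 → Fin r := fun k =>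
    if hk : k.val < l.length then l[k.val] else g ⟨k.val - l.length, by omega⟩
  refine ⟨⟨F, fun x y hxy => ?_⟩, fun k hk => dif_pos hk⟩
  simp only [F] at hxy
  split_ifs at hxy with hx hy hy
  · exact Fin.ext ((List.Nodup.getElem_inj_iff hl).mp hxy)
  · exact absurd (hxy ▸ List.getElem_mem hx) (hg _)
  · exact absurd (hxy ▸ List.getElem_mem hy) (hg _)
  · exact Fin.ext (by have := Fin.ext_iff.1 (g.injective hxy); simp only at this; omega)

end CfsgLib.AltSectESix
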