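import Cfsg.Agent.AltSectESix.Weights
import Cfsg.Agent.AltMinDeg.Main

/-!
# The kernel acts by scalars on irreducible constituents

The part of the kernel of order prime to the characteristic is central: a non-central piece of
class two would give a symplectic module of dimension at least ten inside the endomorphisms of a
space of dimension at most 27.
-/

set_option autoImplicit false
set_option linter.unusedSectionVars false
set_option linter.style.haveILetI false

namespace CfsgLib.AltSectESix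

open Module CfsgAltMinDeg
open scoped commutatorElement

variable {K : Type} [Field K] [IsAlgClosed K] {V : Type} [AddCommGroup V] [Module K V]
  [FiniteDimensional K V] {r : ℕ} {H : Type} [Group H] [Finite H]

/-- A `p`-group acting on a non-zero space in characteristic `p` fixes a non-zero vector. -/
theorem exists_fixed_of_pGroup {F : Type} [AddCommGroup F] [Module K F] [Nontrivial F] {p : ℕ}
    [Fact p.Prime] [CharP K p] (σ : H →* Module.End K F) {P : Subgroup H} (hP : IsPGroup p P) :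
    ∃ v : F, v ≠ 0 ∧ ∀ g ∈ P, σ g v = v := by
  classical
  obtain ⟨v₀, hv₀⟩ := exists_ne (0 : F)
  haveI : Module (ZMod p) F := AddCommGroup.zmodModule (n := p) fun x => by
    rw [← Nat.cast_smul_eq_nsmul K, CharP.cast_eq_zero, zero_smul]
  let S : Submodule (ZMod p) F := Submodule.span (ZMod p) (Set.range fun g : P => σ g v₀)
  haveI : Module.Finite (ZMod p) S := Module.Finite.span_of_finite _ (Set.finite_range _)
  haveI : Finite S := Module.finite_of_finite (ZMod p)
  have hinv : ∀ (g : P), ∀ x ∈ S, σ g x ∈ S := by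
    intro g x hx
    let T : F →ₗ[ZMod p] F := AddMonoidHom.toZModLinearMap p (σ (g : H)).toAddMonoidHom
    have hle : S.map T ≤ S := by
      rw [Submodule.map_span, Submodule.span_le]
      rintro _ ⟨_, ⟨k, rfl⟩, rfl⟩
      refine Submodule.subset_span ⟨g * k, ?_⟩
      show σ ((g * k : P) : H) v₀ = σ g (σ k v₀)
      rw [Subgroup.coe_mul, map_mul, Module.End.mul_apply]
    exact hle ⟨x, hx, rfl⟩
  letI : MulAction P S :=
    { smul := fun g x => ⟨σ g x, hinv g x x.2⟩
      one_smul := fun x => Subtype.ext (by show σ ((1 : P) : H) (x : F) = x; simp)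
      mul_smul := fun g k x => Subtype.ext (by
        show σ ((g * k : P) : H) (x : F) = σ g (σ k x)
        rw [Subgroup.coe_mul, map_mul, Module.End.mul_apply]) }
  have hmem : v₀ ∈ S := Submodule.subset_span ⟨1, by simp⟩
  haveI : Nontrivial S := ⟨⟨⟨v₀, hmem⟩, 0, fun e => hv₀ (congrArg Subtype.val e)⟩⟩
  have hdvd : p ∣ Nat.card S := by
    rw [Module.natCard_eq_pow_finrank (K := ZMod p), Nat.card_zmod]
    exact dvd_pow_self p (Module.finrank_pos).ne'
  have h0 : (0 : S) ∈ MulAction.fixedPoints P S := fun g => Subtype.ext (map_zero (σ (g : H)))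
  obtain ⟨x, hx, hx0⟩ := hP.exists_fixed_point_of_prime_dvd_card_of_fixed_point S hdvd h0
  exact ⟨x, fun e => hx0 (Subtype.ext e.symm), fun g hg => congrArg Subtype.val (hx ⟨g, hg⟩)⟩

variable (X : Ctx K V r H)
include X

theorem Ctx.nine_le : 9 ≤ r := by rcases X.degree with h | h <;> omega

theorem Ctx.ker_nilpotent : Group.IsNilpotent X.φ.ker := by
  have hFr : X.φ.ker ≤ frattini H := by
    refine le_iInf₂ fun M hM => ?_
    by_contra hle
    have htop : M ⊔ X.φ.ker = ⊤ := hM.2 _ (left_lt_sup.mpr hle)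
    refine hM.1 (X.minimal M ?_)
    have := congrArg (Subgroup.map X.φ) htop
    rwa [Subgroup.map_sup, (Subgroup.map_eq_bot_iff _).mpr le_rfl, sup_bot_eq,
      Subgroup.map_top_of_surjective _ X.surj] at this
  haveI : Group.IsNilpotent (frattini H) := frattini_nilpotent
  exact Group.nilpotent_of_surjective
    (Subgroup.subgroupOfEquivOfLe hFr).toMonoidHom (MulEquiv.surjective _)

/-- A normal subgroup in the kernel of prime power order prime to the characteristic is central. -/
theorem Ctx.pGroup_central {s : ℕ} (hs : s.Prime) (hsK : (s : K) ≠ 0) (S : Subgroup H) [hSn : S.Normal]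
    (hS : IsPGroup s S) : S ≤ Subgroup.center H := by
  classical
  haveI := Fact.mk hs
  by_contra hSZ
  have hperf := perfect_of_minimal X.φ (by have := X.nine_le; omega) X.surj X.minimal
  let Z : Subgroup H := Subgroup.center H
  let q := QuotientGroup.mk' Z
  have hord : ∀ a ∈ S, ∃ k : ℕ, (k : K) ≠ 0 ∧ a ^ k = 1 := by
    intro a ha
    obtain ⟨k, hk⟩ := hS ⟨a, ha⟩
    exact ⟨s ^ k, by simp [hsK], congrArg Subtype.val hk⟩
  let U : Subgroup H :=
    { carrier := {u | u ∈ S ∧ (∀ v ∈ S, Commute (q u) (q v)) ∧ q u ^ s = 1}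
      one_mem' := ⟨one_mem _, fun v _ => by simp, by simp⟩
      mul_mem' := fun {a b} ha hb => ⟨mul_mem ha.1 hb.1, fun v hv => by
        rw [map_mul]; exact (ha.2.1 v hv).mul_left (hb.2.1 v hv), by
        rw [map_mul, (ha.2.1 b hb.1).mul_pow, ha.2.2, hb.2.2, one_mul]⟩
      inv_mem' := fun {a} ha => ⟨inv_mem ha.1, fun v hv => by
        rw [map_inv]; exact (ha.2.1 v hv).inv_left, by rw [map_inv, inv_pow, ha.2.2, inv_one]⟩ }
  have hUn : U.Normal := ⟨fun u hu g => ⟨hSn.conj_mem u hu.1 g, fun v hv => by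
      have hv' : g⁻¹ * v * g ∈ S := by simpa using hSn.conj_mem v hv g⁻¹
      have := (hu.2.1 _ hv').map (MulAut.conj (q g)).toMonoidHom
      simpa [map_mul, mul_assoc] using this,
    by rw [map_mul, map_mul, map_inv, conj_pow, hu.2.2, mul_one, mul_inv_cancel]⟩⟩
  obtain ⟨u₀, hu₀, hu₀Z⟩ : ∃ u ∈ U, u ∉ Z := by
    haveI : Nontrivial (S.map q) := by
      rw [Subgroup.nontrivial_iff_ne_bot]
      intro e
      rw [Subgroup.map_eq_bot_iff, QuotientGroup.ker_mk'] at e
      exact hSZ e
    have hP : IsPGroup s (S.map q) := hS.map q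
    haveI := hP.center_nontrivial
    obtain ⟨k, hk⟩ := IsPGroup.iff_card.1 (hP.to_subgroup (Subgroup.center (S.map q)))
    have hk0 : 0 < k := by
      refine Nat.pos_of_ne_zero fun e => ?_
      have h1 := Finite.one_lt_card (α := Subgroup.center (S.map q))
      rw [hk, e, pow_zero] at h1
      exact lt_irrefl 1 h1
    obtain ⟨c, hc⟩ := exists_prime_orderOf_dvd_card' (G := Subgroup.center (S.map q)) s
      (hk ▸ dvd_pow_self s hk0.ne')
    obtain ⟨u, hu, e⟩ := (c : S.map q).2
    have hord' : orderOf (q u) = s := by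
      rw [e, Subgroup.orderOf_coe, Subgroup.orderOf_coe]; exact hc
    refine ⟨u, ⟨hu, fun v hv => ?_, ?_⟩, fun hZ => ?_⟩
    · have := Subgroup.mem_center_iff.1 c.2 ⟨q v, Subgroup.mem_map_of_mem q hv⟩
      exact (Commute.symm (by
        show q v * q u = q u * q v
        rw [e]; exact congrArg Subtype.val this))
    · rw [← hord', pow_orderOf_eq_one]
    · rw [show q u = 1 from (QuotientGroup.eq_one_iff u).2 hZ, orderOf_one] at hord'
      exact hs.one_lt.ne hord'
  have hUS : ∀ {u}, u ∈ U → u ∈ S := fun hu => hu.1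
  have hcomm : ∀ u ∈ U, ∀ v ∈ U, ⁅u, v⁆ ∈ Z ⊓ S := by
    intro u hu v hv
    refine ⟨?_, show ⁅u, v⁆ ∈ S by
      rw [commutatorElement_def]
      exact mul_mem (mul_mem (mul_mem (hUS hu) (hUS hv)) (inv_mem (hUS hu))) (inv_mem (hUS hv))⟩
    show ⁅u, v⁆ ∈ Z
    rw [← QuotientGroup.eq_one_iff]
    show q ⁅u, v⁆ = 1
    rw [map_commutatorElement, commutatorElement_eq_one_iff_mul_comm]
    exact hu.2.1 v (hUS hv)
  let A : Subgroup H := U ⊓ Subgroup.centralizer (U : Set H)
  haveI := hUn
  haveI : A.Normal := inferInstance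
  have hAZ : A ≤ Z := X.abelian_central A
    (fun a ha b hb => (Subgroup.mem_centralizer_iff.1 hb.2 a ha.1)) fun a ha => hord a (hUS ha.1)
  let B : Subgroup H := Z ⊓ S
  have hBc : ∀ a ∈ B, ∀ b ∈ B, a * b = b * a := fun a _ b hb =>
    (Subgroup.mem_center_iff.1 hb.1 a)
  have htop := X.iSup_W B hBc fun a ha => hord a ha.2
  have hcen : ∀ {z : H}, z ∈ Z → ∀ g, g * z = z * g := fun hz g => Subgroup.mem_center_iff.1 hz g
  -- one eigencharacter of the central part
  have key : ∀ χ : B → K, X.W B χ ≠ ⊥ → ∀ (h u : H), u ∈ U → ∀ (v : H) (hv : v ∈ U) (hmem : ⁅⁅h, u⁆, v⁆ ∈ B),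
      χ ⟨⁅⁅h, u⁆, v⁆, hmem⟩ = 1 := by
    intro χ hχ
    let W := X.W B χ
    haveI : Nontrivial W := Submodule.nontrivial_iff_ne_bot.2 hχ
    have hinv : ∀ g, ∀ w ∈ W, X.ρ g w ∈ W := by
      intro g w hw
      rw [X.mem_W] at hw ⊢
      intro a
      rw [← map_smul, ← hw a, ← Module.End.mul_apply, ← Module.End.mul_apply, ← map_mul, ← map_mul,
        hcen a.2.1 g]
    let ρW : H →* Module.End K W :=
      { toFun := fun g => (X.ρ g).restrict (hinv g)
        map_one' := by ext; simp
        map_mul' := fun g k => by ext; simp }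
    have hW : ∀ b : B, ρW b = χ b • 1 := fun b => LinearMap.ext fun w =>
      Subtype.ext (X.mem_W.1 w.2 b)
    let χ' : H → K := fun z => if hz : z ∈ B then χ ⟨z, hz⟩ else 1
    have hχ' : ∀ {z}, z ∈ B → ρW z = χ' z • 1 := fun {z} hz => by
      rw [hW ⟨z, hz⟩]; simp [χ', hz]
    have hinj : ∀ {a b : K}, a • (1 : Module.End K W) = b • 1 → a = b := fun e =>
      smul_left_injective K (one_ne_zero (α := Module.End K W)) e
    let R : Subgroup H :=
      { carrier := {u | u ∈ U ∧ ∀ v ∈ U, Commute (ρW u) (ρW v)}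
        one_mem' := ⟨one_mem _, fun v _ => by rw [map_one]; exact Commute.one_left _⟩
        mul_mem' := fun {a b} ha hb => ⟨mul_mem ha.1 hb.1, fun v hv => by
          rw [map_mul]; exact (ha.2 v hv).mul_left (hb.2 v hv)⟩
        inv_mem' := fun {a} ha => ⟨inv_mem ha.1, fun v hv => by
          have e := ha.2 v hv
          calc ρW a⁻¹ * ρW v = ρW a⁻¹ * (ρW v * (ρW a * ρW a⁻¹)) := by
                rw [← map_mul ρW a, mul_inv_cancel, map_one, mul_one]
            _ = ρW a⁻¹ * (ρW a * ρW v) * ρW a⁻¹ := by rw [e.eq]; simp only [mul_assoc]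
            _ = ρW v * ρW a⁻¹ := by
              rw [← mul_assoc, ← map_mul, inv_mul_cancel, map_one, one_mul]⟩ }
    have hRn : R.Normal := ⟨fun u hu g => ⟨hUn.conj_mem u hu.1 g, fun v hv => by
      have hv' : g⁻¹ * v * g ∈ U := by simpa using hUn.conj_mem v hv g⁻¹
      have e := hu.2 _ hv'
      show ρW (g * u * g⁻¹) * ρW v = ρW v * ρW (g * u * g⁻¹)
      have e' : ρW (u * (g⁻¹ * v * g)) = ρW ((g⁻¹ * v * g) * u) := by
        rw [map_mul ρW u, map_mul ρW (g⁻¹ * v * g) u, e.eq]
      calc ρW (g * u * g⁻¹) * ρW v = ρW g * ρW (u * (g⁻¹ * v * g)) * ρW g⁻¹ := by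
            simp only [← map_mul]; congr 1; group
        _ = _ := by rw [e']; simp only [← map_mul]; congr 1; group⟩⟩
    haveI := hRn
    have hBR : ∀ z, z ∈ B → z ∈ U → z ∈ R := fun z hz hzU => ⟨hzU, fun v _ => by
      rw [hχ' hz]; exact (Commute.one_left _).smul_left _⟩
    let q₂ := QuotientGroup.mk' R
    let E : Subgroup (H ⧸ R) := U.map q₂
    haveI : E.Normal := hUn.map q₂ (QuotientGroup.mk'_surjective R)
    have hEc : ∀ x ∈ E, ∀ y ∈ E, x * y = y * x := by
      rintro _ ⟨u, hu, rfl⟩ _ ⟨v, hv, rfl⟩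
      rw [← commutatorElement_eq_one_iff_mul_comm, ← map_commutatorElement]
      exact (QuotientGroup.eq_one_iff _).2 (hBR _ (hcomm u hu v hv)
        (mul_mem (mul_mem (mul_mem hu hv) (inv_mem hu)) (inv_mem hv)))
    have hEs : ∀ x : E, x ^ s = 1 := by
      rintro ⟨_, u, hu, rfl⟩
      refine Subtype.ext ?_
      show q₂ u ^ s = 1
      rw [← map_pow]
      refine (QuotientGroup.eq_one_iff _).2 ⟨pow_mem hu s, fun v hv => ?_⟩
      have hz : u ^ s ∈ Z := (QuotientGroup.eq_one_iff _).1 (by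
        show q (u ^ s) = 1
        rw [map_pow]; exact hu.2.2)
      show ρW (u ^ s) * ρW v = ρW v * ρW (u ^ s)
      rw [← map_mul, ← map_mul, hcen hz v]
    choose rep hrepU hrep using fun x : E => x.2
    have hcard : Nat.card E ≤ 729 := by
      haveI : Fintype E := Fintype.ofFinite _
      rw [Nat.card_eq_fintype_card]
      have h := card_le_finrank_of_weights (K := K) (V := Module.End K W)
        (fun v : U => LinearMap.mulLeft K (ρW v) ∘ₗ LinearMap.mulRight K (ρW (v : H)⁻¹))
        (fun x : E => ρW (rep x)) (fun x v => χ' ⁅(v : H), rep x⁆) ?_ ?_ ?_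
      · refine h.trans ?_
        rw [Module.finrank_linearMap]
        have hW27 : finrank K W ≤ 27 := (Submodule.finrank_le _).trans X.dim
        exact Nat.mul_le_mul hW27 hW27
      · intro x e
        have := CfsgAltMinDeg.end_mul_inv ρW (rep x)
        rw [e, zero_mul] at this
        exact zero_ne_one this
      · intro x y hxy
        refine Subtype.ext ?_
        rw [← hrep x, ← hrep y]
        refine QuotientGroup.eq.2 ⟨mul_mem (inv_mem (hrepU x)) (hrepU y), fun v hv => ?_⟩
        have e0 : χ' ⁅v, rep x⁆ = χ' ⁅v, rep y⁆ := congrFun hxy ⟨v, hv⟩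
        have hm : ρW (⁅v, rep x⁆⁻¹ * ⁅v, rep y⁆) = 1 := by
          rw [map_mul, hχ' (hcomm v hv _ (hrepU y)), ← e0, ← hχ' (hcomm v hv _ (hrepU x)),
            CfsgAltMinDeg.end_inv_mul]
        show ρW ((rep x)⁻¹ * rep y) * ρW v = ρW v * ρW ((rep x)⁻¹ * rep y)
        rw [← map_mul, ← map_mul, show v * ((rep x)⁻¹ * rep y) =
          (rep x)⁻¹ * (⁅v, rep x⁆⁻¹ * ⁅v, rep y⁆) * (rep y * v) by
            simp [commutatorElement_def, mul_assoc],
          map_mul ρW ((rep x)⁻¹ * (⁅v, rep x⁆⁻¹ * ⁅v, rep y⁆)) (rep y * v),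
          map_mul ρW (rep x)⁻¹ (⁅v, rep x⁆⁻¹ * ⁅v, rep y⁆), hm, mul_one, ← map_mul, mul_assoc]
      · intro x v
        show ρW v * (ρW (rep x) * ρW (v : H)⁻¹) = _
        rw [← map_mul, ← map_mul,
          show (v : H) * (rep x * (v : H)⁻¹) = ⁅(v : H), rep x⁆ * rep x by
            simp [commutatorElement_def, mul_assoc],
          map_mul, hχ' (hcomm v v.2 _ (hrepU x)), smul_mul_assoc, one_mul]
    letI : CommGroup E :=
      { (inferInstance : Group E) with
        mul_comm := fun x y => Subtype.ext (hEc x x.2 y y.2) }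
    let α : H →* MulAut E := (MulAut.conjNormal (H := E)).comp q₂
    rcases normal_dichotomy X.φ (by have := X.nine_le; omega) X.surj X.minimal α.ker with hk | hk
    · exfalso
      obtain ⟨d, hEd, M, hM, -⟩ := exists_matrix_rep (E := E) s hEs α
      let F := AlgebraicClosure (ZMod s)
      let ρ' : H →* Module.End F (Fin d → F) :=
        (Matrix.toLinAlgEquiv' (R := F) (n := Fin d)).toRingEquiv.toMonoidHom.comp
          ((algebraMap (ZMod s) F).mapMatrix.toMonoidHom.comp M)
      have hker : ρ'.ker ≤ X.φ.ker := by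
        refine le_trans (fun h hh => hM ?_) hk
        rw [MonoidHom.mem_ker] at hh ⊢
        apply Matrix.map_injective (f := algebraMap (ZMod s) F) (RingHom.injective _)
        show (algebraMap (ZMod s) F).mapMatrix (M h) = (algebraMap (ZMod s) F).mapMatrix 1
        apply (Matrix.toLinAlgEquiv' (R := F) (n := Fin d)).injective
        show ρ' h = _
        rw [hh, map_one, map_one]
      have hd := (CfsgAltMinDeg.good r X.nine_le F (Fin d → F) H ρ' X.φ X.surj hker).1
      rw [Module.finrank_fin_fun] at hd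
      have h2 : 2 ^ 10 ≤ Nat.card E := hEd ▸
        (Nat.pow_le_pow_right two_pos (by rcases X.degree with h | h <;> omega)).trans
          (Nat.pow_le_pow_left hs.two_le d)
      omega
    · intro h u hu v hv hmem
      have hh : h ∈ α.ker := hk ▸ Subgroup.mem_top h
      have he := congrArg (fun a : MulAut E => ((a ⟨q₂ u, u, hu, rfl⟩ : E) : H ⧸ R))
        (MonoidHom.mem_ker.1 hh)
      have he' : q₂ h * q₂ u * (q₂ h)⁻¹ = q₂ u := he
      have hR : ⁅h, u⁆ ∈ R := by
        rw [← QuotientGroup.eq_one_iff]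
        show q₂ ⁅h, u⁆ = 1
        rw [map_commutatorElement, commutatorElement_def, he', mul_inv_cancel]
      have hc := hR.2 v hv
      refine hinj ?_
      rw [← show χ' ⁅⁅h, u⁆, v⁆ = χ ⟨_, hmem⟩ by simp [χ', hmem], ← hχ' hmem, one_smul,
        commutatorElement_def]
      simp only [map_mul]
      rw [hc.eq, mul_assoc (ρW v), ← map_mul ρW ⁅h, u⁆,
        mul_inv_cancel, map_one, mul_one, ← map_mul, mul_inv_cancel, map_one]
  have hZ1 : ∀ h : H, ⁅h, u₀⁆ ∈ Z := by
    intro h
    have hin : ⁅h, u₀⁆ ∈ U := mul_mem (hUn.conj_mem u₀ hu₀ h) (inv_mem hu₀)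
    refine hAZ ⟨hin, Subgroup.mem_centralizer_iff.2 fun v hv => ?_⟩
    refine (commutatorElement_eq_one_iff_mul_comm.1 (X.inj (LinearMap.ext fun w => ?_))).symm
    rw [map_one, Module.End.one_apply]
    have hw : w ∈ ⨆ χ : B → K, X.W B χ := htop ▸ Submodule.mem_top
    refine Submodule.iSup_induction (motive := fun w => X.ρ ⁅⁅h, u₀⁆, v⁆ w = w) _ hw ?_
      (map_zero _) (fun x y hx hy => by rw [map_add, hx, hy])
    intro χ x hx
    by_cases h0 : X.W B χ = ⊥
    · rw [h0, Submodule.mem_bot] at hx; subst hx; exact map_zero _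
    have hmem := hcomm _ hin v hv
    rw [X.mem_W.1 hx ⟨_, hmem⟩, key χ h0 h u₀ hu₀ v hv hmem, one_smul]
  let f : H →* Z :=
    MonoidHom.mk' (fun h => ⟨⁅h, u₀⁆, hZ1 h⟩) fun g h => Subtype.ext (by
      show ⁅g * h, u₀⁆ = ⁅g, u₀⁆ * ⁅h, u₀⁆
      have e : ⁅g * h, u₀⁆ = g * ⁅h, u₀⁆ * (u₀ * g⁻¹ * u₀⁻¹) := by
        simp [commutatorElement_def, mul_assoc]
      rw [e, hcen (hZ1 h) g, mul_assoc, hcen (hZ1 h) ⁅g, u₀⁆]
      simp [commutatorElement_def, mul_assoc])
  refine hu₀Z (Subgroup.mem_center_iff.2 fun g => ?_)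
  letI : CommGroup Z :=
    { (inferInstance : Group Z) with mul_comm := fun a b => Subtype.ext (hcen b.2 a) }
  have := congrArg Subtype.val (trivial_hom_of_perfect hperf f g)
  exact commutatorElement_eq_one_iff_mul_comm.1 this

/-- The kernel is a product of a `p`-group and central elements. -/
theorem Ctx.ker_decomp (p : ℕ) [Fact p.Prime] [CharP K p] :
    ∃ P : Subgroup H, P.Normal ∧ IsPGroup p P ∧
      ∀ z ∈ X.φ.ker, ∃ a ∈ P, a⁻¹ * z ∈ Subgroup.center H := by
  classical
  haveI := X.ker_nilpotent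
  have hnorm : ∀ (s : ℕ) [Fact s.Prime] (S : Sylow s X.φ.ker),
      ((S : Subgroup X.φ.ker).map X.φ.ker.subtype).Normal := by
    intro s _ S
    have hall : ∀ (q : ℕ) (_ : Fact q.Prime) (T : Sylow q X.φ.ker),
        (T : Subgroup X.φ.ker).Normal :=
      ((Group.isNilpotent_of_finite_tfae (G := X.φ.ker)).out 0 3 rfl rfl).1 X.ker_nilpotent
    haveI : (S : Subgroup X.φ.ker).Normal := hall s ‹_› S
    haveI := Sylow.characteristic_of_normal S ‹_›
    infer_instance
  let S : Sylow p X.φ.ker := default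
  let P := (S : Subgroup X.φ.ker).map X.φ.ker.subtype
  refine ⟨P, hnorm p S, S.2.map _, ?_⟩
  let M : Subgroup X.φ.ker := (S : Subgroup X.φ.ker) ⊔ (Subgroup.center H).subgroupOf X.φ.ker
  have hM : M = ⊤ := by
    rw [← Subgroup.index_eq_one]
    by_contra h1
    obtain ⟨s, hs, hsd⟩ := Nat.exists_prime_and_dvd h1
    haveI := Fact.mk hs
    by_cases hsp : s = p
    · subst hsp
      exact S.not_dvd_index (hsd.trans (Subgroup.index_dvd_of_le le_sup_left))
    · let T : Sylow s X.φ.ker := default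
      haveI := hnorm s T
      have hK : (s : K) ≠ 0 := fun e => hsp
        ((Nat.prime_dvd_prime_iff_eq Fact.out hs).1 ((CharP.cast_eq_zero_iff K p s).1 e)).symm
      have hle := X.pGroup_central hs hK _ (T.2.map X.φ.ker.subtype)
      exact T.not_dvd_index (hsd.trans (Subgroup.index_dvd_of_le fun t ht =>
        Subgroup.mem_sup_right (hle (Subgroup.mem_map_of_mem _ ht))))
  intro z hz
  haveI : ((Subgroup.center H).subgroupOf X.φ.ker).Normal := inferInstance
  obtain ⟨a, ha, c, hc, e⟩ := Subgroup.mem_sup_of_normal_right.1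
    (hM ▸ Subgroup.mem_top (⟨z, hz⟩ : X.φ.ker))
  refine ⟨a, Subgroup.mem_map_of_mem _ ha, ?_⟩
  have : (a : H) * c = z := congrArg Subtype.val e
  rw [← this, inv_mul_cancel_left]
  exact hc

/-- The kernel acts by scalars on a non-trivial irreducible constituent. -/
theorem Ctx.isAltRep (p : ℕ) [Fact p.Prime] [CharP K p] {F : Type} [AddCommGroup F] [Module K F]
    [FiniteDimensional K F] [Nontrivial F] (σ : H →* Module.End K F) (hirr : Irred σ)
    (hne : σ.ker ≠ ⊤) : IsAltRep σ X.φ := by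
  obtain ⟨P, hPn, hPp, hdec⟩ := X.ker_decomp p
  have hPtriv : ∀ g ∈ P, σ g = 1 := by
    let W : Submodule K F :=
      { carrier := {v | ∀ g ∈ P, σ g v = v}
        add_mem' := fun {a b} ha hb g hg => by rw [map_add, ha g hg, hb g hg]
        zero_mem' := fun g _ => map_zero _
        smul_mem' := fun c v hv g hg => by rw [map_smul, hv g hg] }
    have hW : ∀ h, ∀ w ∈ W, σ h w ∈ W := by
      intro h w hw g hg
      have hc : h⁻¹ * g * h ∈ P := by simpa using hPn.conj_mem g hg h⁻¹
      rw [← Module.End.mul_apply, ← map_mul, show g * h = h * (h⁻¹ * g * h) by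
        simp [mul_assoc], map_mul, Module.End.mul_apply, hw _ hc]
    obtain ⟨v, hv0, hv⟩ := exists_fixed_of_pGroup (K := K) σ hPp
    have htop := (hirr W hW).resolve_left fun e =>
      hv0 ((Submodule.eq_bot_iff W).1 e v hv)
    exact fun g hg => LinearMap.ext fun w => (htop ▸ Submodule.mem_top : w ∈ W) g hg
  refine ⟨X.surj, fun h => ⟨fun hh => ?_, fun hh => ?_⟩⟩
  · obtain ⟨a, ha, hc⟩ := hdec h hh
    obtain ⟨c, hc'⟩ := scalar_of_commute hirr (σ (a⁻¹ * h)) fun g => by
      show σ (a⁻¹ * h) * σ g = σ g * σ (a⁻¹ * h)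
      rw [← map_mul, ← map_mul, Subgroup.mem_center_iff.1 hc g]
    refine ⟨c, ?_⟩
    rw [← hc', map_mul, hPtriv _ (inv_mem ha), one_mul]
  · let T : Subgroup H :=
      { carrier := {g | ∃ c : K, σ g = c • 1}
        one_mem' := ⟨1, by simp⟩
        mul_mem' := fun {a b} ⟨c, hc⟩ ⟨d, hd⟩ => ⟨c * d, by
          rw [map_mul, hc, hd, smul_mul_smul_comm, one_mul]⟩
        inv_mem' := fun {a} ⟨c, hc⟩ => ⟨c⁻¹, by
          have h1 := CfsgAltMinDeg.end_inv_mul σ a
          rw [hc, mul_smul_comm, mul_one] at h1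
          have h0 : c ≠ 0 := fun e => by rw [e, zero_smul] at h1; exact zero_ne_one h1
          rw [← h1, smul_smul, inv_mul_cancel₀ h0, one_smul]⟩ }
    haveI : T.Normal := ⟨fun x ⟨c, hc⟩ g => ⟨c, by
      rw [map_mul, map_mul, hc, mul_smul_comm, mul_one, smul_mul_assoc,
        CfsgAltMinDeg.end_mul_inv σ g]⟩⟩
    refine MonoidHom.mem_ker.1 ((normal_dichotomy X.φ (by have := X.nine_le; omega) X.surj
      X.minimal T).resolve_right (fun e => hne ?_) hh)
    refine eq_top_iff.2 ?_
    rw [← perfect_of_minimal X.φ (by have := X.nine_le; omega) X.surj X.minimal, commutator_def,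
      Subgroup.commutator_le]
    intro a _ b _
    obtain ⟨c, hc⟩ := (e ▸ Subgroup.mem_top a : a ∈ T)
    rw [MonoidHom.mem_ker, commutatorElement_def, map_mul, map_mul, map_mul, hc, smul_mul_assoc,
      one_mul, smul_mul_assoc, smul_mul_assoc, ← map_mul, ← map_mul,
      show b * a⁻¹ * b⁻¹ = b * (a⁻¹ * b⁻¹) from mul_assoc _ _ _, map_mul, map_mul,
      ← mul_smul_comm]
    have ha := CfsgAltMinDeg.end_mul_inv σ a
    rw [hc, smul_mul_assoc, one_mul] at ha
    rw [← smul_mul_assoc, ha, one_mul, CfsgAltMinDeg.end_mul_inv σ b]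

end CfsgLib.AltSectESix
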