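import Cfsg.Agent.AltSectESix.Kernel

/-!
# Spectra along constituents, and isometries with small eigenspaces

Eigenspace dimensions of an operator of order prime to the characteristic add along an invariant
subspace, unipotent operators have order a power of the characteristic, and an isometry of a cube
form of order three or five with small non-trivial eigenspaces is trivial.
-/

set_option autoImplicit false
set_option linter.unusedSectionVars false

namespace CfsgLib.AltSectESix

open Module CfsgAltMinDeg

variable {K : Type} [Field K] {V : Type} [AddCommGroup V] [Module K V] [FiniteDimensional K V]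

/-- The eigenspaces of an operator of order prime to the characteristic split along an invariant
subspace. -/
theorem finrank_eigen_split {T : Module.End K V} {n : ℕ} (hn : (n : K) ≠ 0) (hT : T ^ n = 1)
    (W : Submodule K V) (hW : ∀ w ∈ W, T w ∈ W) (μ : K) :
    finrank K (Module.End.eigenspace T μ) =
      finrank K (Module.End.eigenspace (T.restrict hW) μ) +
        finrank K (Module.End.eigenspace (W.mapQ W T hW) μ) := by
  let π : Module.End.eigenspace T μ →ₗ[K] Module.End.eigenspace (W.mapQ W T hW) μ :=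
    (W.mkQ.comp (Module.End.eigenspace T μ).subtype).codRestrict _ fun v => by
      rw [Module.End.mem_eigenspace_iff, LinearMap.comp_apply, Submodule.mkQ_apply,
        Submodule.mapQ_apply, Submodule.subtype_apply, Module.End.mem_eigenspace_iff.1 v.2,
        Submodule.Quotient.mk_smul]
  have hsurj : Function.Surjective π := by
    rintro ⟨q, hq⟩
    obtain ⟨v, rfl⟩ := Submodule.Quotient.mk_surjective W q
    have hpow : ∀ i : ℕ, (Submodule.Quotient.mk ((T ^ i) v) : V ⧸ W) =
        μ ^ i • Submodule.Quotient.mk v := by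
      intro i
      induction i with
      | zero => simp
      | succ i ih =>
        rw [pow_succ', Module.End.mul_apply, ← Submodule.mapQ_apply W W T (h := hW), ih, map_smul,
          Module.End.mem_eigenspace_iff.1 hq, smul_smul, pow_succ]
    by_cases hμ : μ ^ n = 1
    · have hμ0 : μ ≠ 0 := by
        rintro rfl
        rw [zero_pow (fun e => hn (by rw [e, Nat.cast_zero]))] at hμ
        exact zero_ne_one hμ
      let v' : V := (n : K)⁻¹ • ∑ i ∈ Finset.range n, (μ⁻¹) ^ i • (T ^ i) v
      refine ⟨⟨v', ?_⟩, Subtype.ext ?_⟩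
      · rw [Module.End.mem_eigenspace_iff]
        show T ((n : K)⁻¹ • _) = μ • ((n : K)⁻¹ • _)
        rw [map_smul, smul_comm μ, map_sum, Finset.smul_sum (r := μ)]
        congr 1
        rw [← sub_eq_zero, ← Finset.sum_sub_distrib]
        have h1 : ∀ i, T ((μ⁻¹) ^ i • (T ^ i) v) - μ • (μ⁻¹) ^ i • (T ^ i) v =
            μ • ((μ⁻¹) ^ (i + 1) • (T ^ (i + 1)) v - (μ⁻¹) ^ i • (T ^ i) v) := by
          intro i
          rw [map_smul, smul_sub, pow_succ', pow_succ' T, Module.End.mul_apply]
          simp only [smul_smul, ← mul_assoc, mul_inv_cancel₀ hμ0, one_mul]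
        rw [Finset.sum_congr rfl fun i _ => h1 i, ← Finset.smul_sum,
          Finset.sum_range_sub (fun i => (μ⁻¹) ^ i • (T ^ i) v), inv_pow, hμ, hT]
        simp
      · show (Submodule.Quotient.mk v' : V ⧸ W) = Submodule.Quotient.mk v
        simp only [v', Submodule.Quotient.mk_smul, ← Submodule.mkQ_apply, map_sum, map_smul]
        simp only [Submodule.mkQ_apply, hpow, smul_smul]
        rw [Finset.sum_congr rfl (fun i _ => by
          rw [← mul_pow, inv_mul_cancel₀ hμ0, one_pow, one_smul]),
          Finset.sum_const, Finset.card_range, ← Nat.cast_smul_eq_nsmul K, smul_smul,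
          inv_mul_cancel₀ hn, one_smul]
    · refine ⟨0, Subtype.ext ?_⟩
      have h := hpow n
      rw [hT, Module.End.one_apply] at h
      have h' : (μ ^ n - 1) • (Submodule.Quotient.mk v : V ⧸ W) = 0 := by
        rw [sub_smul, one_smul, ← h, sub_self]
      simp [(smul_eq_zero.1 h').resolve_left (sub_ne_zero.2 hμ)]
  have hker : finrank K (LinearMap.ker π) =
      finrank K (Module.End.eigenspace (T.restrict hW) μ) := by
    refine LinearEquiv.finrank_eq
      { toFun := fun x => ⟨⟨x.1.1, ?_⟩, ?_⟩
        invFun := fun y => ⟨⟨y.1.1, ?_⟩, ?_⟩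
        map_add' := fun _ _ => rfl
        map_smul' := fun _ _ => rfl
        left_inv := fun _ => rfl
        right_inv := fun _ => rfl }
    · exact (Submodule.Quotient.mk_eq_zero W).1 (congrArg Subtype.val (LinearMap.mem_ker.1 x.2))
    · exact Module.End.mem_eigenspace_iff.2 (Subtype.ext (Module.End.mem_eigenspace_iff.1 x.1.2))
    · exact Module.End.mem_eigenspace_iff.2
        (congrArg Subtype.val (Module.End.mem_eigenspace_iff.1 y.2))
    · exact LinearMap.mem_ker.2 (Subtype.ext ((Submodule.Quotient.mk_eq_zero W).2 y.1.2))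
  have h := LinearMap.finrank_range_add_finrank_ker π
  rw [LinearMap.range_eq_top.2 hsurj, finrank_top, hker] at h
  omega

/-- A unipotent extension. -/
theorem unipotent_extend {T : Module.End K V} (W : Submodule K V) (hW : ∀ w ∈ W, T w ∈ W)
    {a b : ℕ} (ha : (T.restrict hW - 1) ^ a = 0) (hb : (W.mapQ W T hW - 1) ^ b = 0) :
    (T - 1) ^ (a + b) = 0 := by
  have h1 : ∀ (i : ℕ) (v : V), (Submodule.Quotient.mk (((T - 1) ^ i : Module.End K V) v) : V ⧸ W) =
      ((W.mapQ W T hW - 1) ^ i : Module.End K (V ⧸ W)) (Submodule.Quotient.mk v) := by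
    intro i
    induction i with
    | zero => simp
    | succ i ih => intro v; simp [pow_succ', ← ih]
  have h2 : ∀ (i : ℕ) (w : W), ((((T.restrict hW - 1) ^ i : Module.End K W)) w : V) =
      ((T - 1) ^ i : Module.End K V) w := by
    intro i
    induction i with
    | zero => simp
    | succ i ih => intro w; simp [pow_succ', ← ih, LinearMap.restrict_apply]
  refine LinearMap.ext fun v => ?_
  have hm : ((T - 1) ^ b) v ∈ W := by
    rw [← Submodule.Quotient.mk_eq_zero W, h1, hb, LinearMap.zero_apply]
  rw [pow_add, Module.End.mul_apply, ← h2 a ⟨_, hm⟩, ha]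
  rfl

/-- A unipotent operator has order a power of the characteristic. -/
theorem pow_char_eq_one {p : ℕ} [Fact p.Prime] [CharP K p] {T : Module.End K V} {n k : ℕ}
    (hT : (T - 1) ^ n = 0) (hk : n ≤ p ^ k) : T ^ p ^ k = 1 := by
  have h := congrArg (Polynomial.aeval T)
    (sub_pow_char_pow (R := Polynomial K) (p := p) (n := k) Polynomial.X 1)
  simp only [map_sub, map_pow, map_one, Polynomial.aeval_X, one_pow] at h
  rw [pow_eq_zero_of_le hk hT] at h
  exact sub_eq_zero.1 h.symm

section Constituents

variable {r : ℕ} {H : Type} [Group H]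

/-- The action on an invariant subspace. -/
def subRep (σ : H →* Module.End K V) (W : Submodule K V) (hW : ∀ h, ∀ w ∈ W, σ h w ∈ W) :
    H →* Module.End K W where
  toFun h := (σ h).restrict (hW h)
  map_one' := by ext; simp
  map_mul' g h := by ext; simp

/-- The action on the quotient by an invariant subspace. -/
def quotRep (σ : H →* Module.End K V) (W : Submodule K V) (hW : ∀ h, ∀ w ∈ W, σ h w ∈ W) :
    H →* Module.End K (V ⧸ W) where
  toFun h := W.mapQ W (σ h) (hW h)
  map_one' := by ext; simp
  map_mul' g h := by ext; simp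

variable [IsAlgClosed K] [Finite H]

/-- Induction on the constituents. -/
theorem constituent_induction (X : Ctx K V r H) (p : ℕ) [Fact p.Prime] [CharP K p]
    (P : ∀ (F : Type) [AddCommGroup F] [Module K F] [FiniteDimensional K F],
      (H →* Module.End K F) → Prop)
    (triv : ∀ (F : Type) [AddCommGroup F] [Module K F] [FiniteDimensional K F]
      (σ : H →* Module.End K F), (∀ h, σ h = 1) → P F σ)
    (alt : ∀ (F : Type) [AddCommGroup F] [Module K F] [FiniteDimensional K F]
      (σ : H →* Module.End K F), finrank K F ≤ 27 → 0 < finrank K F → Irred σ →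
      IsAltRep σ X.φ → P F σ)
    (ext : ∀ (F : Type) [AddCommGroup F] [Module K F] [FiniteDimensional K F]
      (σ : H →* Module.End K F) (W : Submodule K F) (hW : ∀ h, ∀ w ∈ W, σ h w ∈ W),
      finrank K F ≤ 27 → P W (subRep σ W hW) → P (F ⧸ W) (quotRep σ W hW) → P F σ) :
    P V X.ρ := by
  suffices h : ∀ (n : ℕ) (F : Type) [AddCommGroup F] [Module K F] [FiniteDimensional K F]
      (σ : H →* Module.End K F), finrank K F = n → n ≤ 27 → P F σ from h _ V X.ρ rfl X.dim
  intro n
  induction n using Nat.strong_induction_on with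
  | _ n ih =>
  intro F _ _ _ σ hn h27
  subst hn
  by_cases ht : ∀ h, σ h = 1
  · exact triv F σ ht
  haveI : Nontrivial F := by
    by_contra hF
    rw [not_nontrivial_iff_subsingleton] at hF
    exact ht fun h => LinearMap.ext fun v => Subsingleton.elim _ _
  by_cases hirr : Irred σ
  · exact alt F σ h27 finrank_pos hirr (X.isAltRep p σ hirr fun e => ht fun h =>
      MonoidHom.mem_ker.1 (e ▸ Subgroup.mem_top h))
  simp only [Irred, not_forall, not_or] at hirr
  obtain ⟨W, hW, hbot, htop⟩ := hirr
  have hlt : finrank K W < finrank K F := Submodule.finrank_lt htop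
  have hsum := W.finrank_quotient_add_finrank
  have hpos : 0 < finrank K W := Nat.pos_of_ne_zero fun e => hbot (Submodule.finrank_eq_zero.1 e)
  exact ext F σ W hW h27 (ih _ hlt W _ rfl (by omega)) (ih _ (by omega) (F ⧸ W) _ rfl (by omega))

end Constituents

section Joint

variable {ι : Type} [Fintype ι] [DecidableEq ι]

/-- The joint eigenspace of a family of operators. -/
def joint (T : ι → Module.End K V) (μ : ι → K) : Submodule K V :=
  ⨅ i, Module.End.eigenspace (T i) (μ i)

theorem mem_joint {T : ι → Module.End K V} {μ : ι → K} {v : V} :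
    v ∈ joint T μ ↔ ∀ i, T i v = μ i • v := by
  simp [joint]

/-- The rank of a finite part of an independent family. -/
theorem finrank_biSup {α : Type} {W : α → Submodule K V} (hW : iSupIndep W) (s : Finset α) :
    finrank K (⨆ a ∈ s, W a : Submodule K V) = ∑ a ∈ s, finrank K (W a) := by
  classical
  induction s using Finset.induction_on with
  | empty => simp
  | @insert a s ha ih =>
    rw [Finset.sum_insert ha, Finset.iSup_insert, ← ih]
    have hdis : W a ⊓ ⨆ b ∈ s, W b = ⊥ :=
      disjoint_iff.1 (hW.disjoint_biSup (y := (s : Set α)) (x := a) (by simpa using ha))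
    have h := Submodule.finrank_sup_add_finrank_inf_eq (W a) (⨆ b ∈ s, W b)
    rwa [hdis, finrank_bot, add_zero] at h

variable {n : ℕ} {ζ : K} (hζ : IsPrimitiveRoot ζ n) (hn : (n : K) ≠ 0)
  {T : ι → Module.End K V} (hc : ∀ i j, Commute (T i) (T j)) (hT : ∀ i, T i ^ n = 1)

include hζ in
theorem injective_root : Function.Injective fun a : Fin n => ζ ^ a.val := fun a b h =>
  Fin.ext (hζ.pow_inj a.2 b.2 h)

include hζ hc in
theorem iSupIndep_joint : iSupIndep fun s : ι → Fin n => joint T fun i => ζ ^ (s i).val := by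
  have h := Module.End.independent_iInf_maxGenEigenspace_of_forall_mapsTo T fun i j μ =>
    Module.End.mapsTo_maxGenEigenspace_of_comm (hc j i) μ
  have hinj : Function.Injective fun (s : ι → Fin n) (i : ι) => ζ ^ (s i).val :=
    fun s t e => funext fun i => injective_root hζ (congrFun e i)
  exact (h.comp hinj).mono fun s => iInf_mono fun i =>
    Module.End.eigenspace_le_maxGenEigenspace

variable [IsAlgClosed K]

include hζ hn hc hT in
theorem iSup_joint : ⨆ s : ι → Fin n, joint T (fun i => ζ ^ (s i).val) = ⊤ := by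
  have hn0 : n ≠ 0 := fun e => hn (by rw [e, Nat.cast_zero])
  haveI : NeZero n := ⟨hn0⟩
  have hs : ∀ (i : ι) (μ : K),
      (T i).maxGenEigenspace μ = Module.End.eigenspace (T i) μ := by
    intro i μ
    refine Module.End.IsFinitelySemisimple.maxGenEigenspace_eq_eigenspace ?_ μ
    refine Module.End.IsSemisimple.isFinitelySemisimple ?_
    refine Module.End.isSemisimple_of_squarefree_aeval_eq_zero
      (p := Polynomial.X ^ n - 1) ?_ ?_
    · exact ((Polynomial.separable_X_pow_sub_C (F := K) 1 hn one_ne_zero)).squarefree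
    · rw [map_sub, map_pow, Polynomial.aeval_X, map_one, hT, sub_self]
  have h := Module.End.iSup_iInf_maxGenEigenspace_eq_top_of_iSup_maxGenEigenspace_eq_top_of_commute
    T (fun i j _ => hc i j) fun i => Module.End.iSup_maxGenEigenspace_eq_top _
  simp only [hs] at h
  rw [eq_top_iff, ← h]
  refine iSup_le fun χ => ?_
  by_cases h0 : (⨅ i, Module.End.eigenspace (T i) (χ i)) = ⊥
  · simp [h0]
  obtain ⟨v, hv, hv0⟩ := (Submodule.ne_bot_iff _).1 h0
  rw [Submodule.mem_iInf] at hv
  have hroot : ∀ i, ∃ a : Fin n, ζ ^ a.val = χ i := by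
    intro i
    have hpow : ∀ k, (T i ^ k) v = χ i ^ k • v := by
      intro k
      induction k with
      | zero => simp
      | succ k ih =>
        rw [pow_succ', Module.End.mul_apply, ih, map_smul, Module.End.mem_eigenspace_iff.1 (hv i),
          smul_smul, pow_succ]
    have h1 : χ i ^ n = 1 := by
      refine smul_left_injective K hv0 ?_
      show χ i ^ n • v = (1 : K) • v
      rw [← hpow, hT, Module.End.one_apply, one_smul]
    obtain ⟨a, ha, e⟩ := hζ.eq_pow_of_pow_eq_one h1
    exact ⟨⟨a, ha⟩, e⟩
  choose s hs' using hroot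
  refine le_iSup_of_le s (le_of_eq ?_)
  simp [joint, hs']

include hζ hn hc hT in
theorem sum_joint : ∑ s : ι → Fin n, finrank K (joint T fun i => ζ ^ (s i).val) = finrank K V := by
  rw [← finrank_biSup (iSupIndep_joint hζ hc)]
  rw [iSup_congr fun a => iSup_pos (Finset.mem_univ a)]
  rw [iSup_joint hζ hn hc hT, finrank_top]

include hζ hn hc hT in
theorem sum_joint_eigen (i : ι) (a : Fin n) :
    ∑ s : ι → Fin n with s i = a, finrank K (joint T fun j => ζ ^ (s j).val) =
      finrank K (Module.End.eigenspace (T i) (ζ ^ a.val)) := by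
  have hle : ∀ b : Fin n, ∑ s : ι → Fin n with s i = b,
      finrank K (joint T fun j => ζ ^ (s j).val) ≤
        finrank K (Module.End.eigenspace (T i) (ζ ^ b.val)) := by
    intro b
    rw [← finrank_biSup (iSupIndep_joint hζ hc)]
    refine Submodule.finrank_mono (iSup₂_le fun s hs => ?_)
    rw [Finset.mem_filter] at hs
    exact (iInf_le _ i).trans (le_of_eq (by simp only [hs.2]))
  have hind : iSupIndep fun b : Fin n => Module.End.eigenspace (T i) (ζ ^ b.val) :=
    (Module.End.eigenspaces_iSupIndep (T i)).comp (injective_root hζ)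
  have h1 : ∑ b : Fin n, ∑ s : ι → Fin n with s i = b,
      finrank K (joint T fun j => ζ ^ (s j).val) = finrank K V := by
    rw [Finset.sum_fiberwise, sum_joint hζ hn hc hT]
  have h2 : ∑ b : Fin n, finrank K (Module.End.eigenspace (T i) (ζ ^ b.val)) ≤ finrank K V := by
    rw [← finrank_biSup hind]
    exact Submodule.finrank_le _
  exact (Finset.sum_eq_sum_iff_of_le fun b _ => hle b).1
    (le_antisymm (Finset.sum_le_sum fun b _ => hle b) (h1 ▸ h2)) a (Finset.mem_univ a)

end Joint

section Small

variable [IsAlgClosed K]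

/-- The eigenspaces of an operator of finite order prime to the characteristic span. -/
theorem iSup_eigen_roots {n : ℕ} {ζ : K} (hζ : IsPrimitiveRoot ζ n) (hn : (n : K) ≠ 0)
    {g : Module.End K V} (hg : g ^ n = 1) :
    ⨆ a : Fin n, Module.End.eigenspace g (ζ ^ a.val) = ⊤ := by
  rw [eq_top_iff, ← iSup_joint hζ hn (T := fun _ : Unit => g) (fun _ _ => Commute.refl g)
    fun _ => hg]
  exact iSup_le fun s => le_iSup_of_le (s ()) (iInf_le _ ())

theorem sum_eigen_roots {n : ℕ} {ζ : K} (hζ : IsPrimitiveRoot ζ n) (hn : (n : K) ≠ 0)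
    {g : Module.End K V} (hg : g ^ n = 1) :
    ∑ a : Fin n, finrank K (Module.End.eigenspace g (ζ ^ a.val)) = finrank K V := by
  have hind : iSupIndep fun b : Fin n => Module.End.eigenspace g (ζ ^ b.val) :=
    (Module.End.eigenspaces_iSupIndep g).comp (injective_root hζ)
  rw [← finrank_biSup hind]
  rw [iSup_congr fun a => iSup_pos (Finset.mem_univ a)]
  rw [iSup_eigen_roots hζ hn hg, finrank_top]

theorem eq_one_of_eigen_bot {n : ℕ} {ζ : K} (hζ : IsPrimitiveRoot ζ n) (hn : (n : K) ≠ 0)
    {g : Module.End K V} (hg : g ^ n = 1)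
    (h : ∀ a : Fin n, a.val ≠ 0 → finrank K (Module.End.eigenspace g (ζ ^ a.val)) = 0) : g = 1 := by
  refine LinearMap.ext fun v => ?_
  have hv : v ∈ ⨆ a : Fin n, Module.End.eigenspace g (ζ ^ a.val) :=
    iSup_eigen_roots hζ hn hg ▸ Submodule.mem_top
  refine Submodule.iSup_induction (motive := fun v => g v = (1 : Module.End K V) v) _ hv
    (fun a w hw => ?_) (by simp) fun x y hx hy => by rw [map_add, map_add, hx, hy]
  by_cases ha : a.val = 0
  · simpa [ha] using Module.End.mem_eigenspace_iff.1 hw
  · rw [Submodule.finrank_eq_zero.1 (h a ha), Submodule.mem_bot] at hw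
    simp [hw]

/-- An isometry of order three moving at most six dimensions is trivial. -/
theorem eq_one_of_order_three (C : CubeForm K V) {g : Module.End K V} (hg : C.Pres g)
    (h3 : (3 : K) ≠ 0) (hg3 : g ^ 3 = 1) {ω : K} (hω : ω * ω + ω + 1 = 0) {m : ℕ} (hm : m ≤ 3)
    (h1 : finrank K (Module.End.eigenspace g ω) = m)
    (h2 : finrank K (Module.End.eigenspace g (ω * ω)) = m) : g = 1 := by
  have hω3 : ω ^ 3 = 1 := omega_cube hω
  have hne1 := omega_ne_one h3 hω
  have hne2 : ω * ω ≠ 1 := omega_ne_one h3 (omega_sq hω)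
  have hζ : IsPrimitiveRoot ω 3 := by
    haveI := Fact.mk Nat.prime_three
    rw [← orderOf_eq_prime hω3 hne1]; exact IsPrimitiveRoot.orderOf ω
  have h3' : ((3 : ℕ) : K) ≠ 0 := by simpa using h3
  rcases Nat.eq_zero_or_pos m with hm0 | hm0
  · refine eq_one_of_eigen_bot hζ h3' hg3 fun a ha => ?_
    fin_cases a
    · simp at ha
    · simpa [hm0] using h1
    · simpa [hm0, pow_two] using h2
  exfalso
  obtain ⟨u, hu, hu0⟩ := (Submodule.ne_bot_iff _).1 (fun e : Module.End.eigenspace g ω = ⊥ => by
    rw [e, finrank_bot] at h1; omega)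
  have hb := finrank_range_le_mates (C.B u) (fun i : Fin 3 => Module.End.eigenspace g (ω ^ i.val))
    (iSup_eigen_roots hζ h3' hg3) (fun i => 2 - i) (fun i j hij a ha b hb => ?_)
    (fun _ => m) (fun i => by
      fin_cases i
      · exact Or.inr (h2.symm.trans (by rw [← pow_two]; rfl))
      · exact Or.inl (h1.symm.trans (by conv_lhs => rw [← pow_one ω]))
      · exact Or.inl (h2.symm.trans (by rw [← pow_two])))
  · have := C.ten_le u hu0
    simp only [Finset.sum_const, Finset.card_univ, Fintype.card_fin, smul_eq_mul] at hb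
    omega
  · refine apply_eq_zero C hg (Module.End.mem_eigenspace_iff.1 hu)
      (Module.End.mem_eigenspace_iff.1 ha) (Module.End.mem_eigenspace_iff.1 hb) fun e => hij ?_
    rw [mul_assoc, ← pow_add, ← pow_succ', ← pow_zero ω,
      (hζ.isOfFinOrder (by norm_num)).pow_eq_pow_iff_modEq, ← hζ.eq_orderOf] at e
    fin_cases i <;> fin_cases j <;> simp [Nat.ModEq] at e ⊢

/-- An isometry of order five moving at most eight dimensions is trivial. -/
theorem eq_one_of_order_five (C : CubeForm K V) {g : Module.End K V} (hg : C.Pres g)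
    (h5 : (5 : K) ≠ 0) (hg5 : g ^ 5 = 1) {ζ : K} (hζ : IsPrimitiveRoot ζ 5) {m : ℕ} (hm : m ≤ 2)
    (hd : ∀ a : Fin 5, a.val ≠ 0 → finrank K (Module.End.eigenspace g (ζ ^ a.val)) = m) :
    g = 1 := by
  have h5' : ((5 : ℕ) : K) ≠ 0 := by simpa using h5
  rcases Nat.eq_zero_or_pos m with hm0 | hm0
  · exact eq_one_of_eigen_bot hζ h5' hg5 fun a ha => by rw [hd a ha, hm0]
  exfalso
  let W : Fin 5 → Submodule K V := fun i => Module.End.eigenspace g (ζ ^ i.val)
  have hW : ∀ i : Fin 5, i.val ≠ 0 → finrank K (W i) = m := hd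
  have hzero : ∀ (u : V), u ∈ W 1 → ∀ i j : Fin 5, j ≠ 4 - i → ∀ a ∈ W i, ∀ b ∈ W j,
      C.B u a b = 0 := by
    intro u hu i j hij a ha b hb
    refine apply_eq_zero C hg (Module.End.mem_eigenspace_iff.1 hu)
      (Module.End.mem_eigenspace_iff.1 ha) (Module.End.mem_eigenspace_iff.1 hb) fun e => hij ?_
    rw [mul_assoc, ← pow_add, ← pow_add, ← pow_zero ζ,
      (hζ.isOfFinOrder (by norm_num)).pow_eq_pow_iff_modEq, ← hζ.eq_orderOf] at e
    fin_cases i <;> fin_cases j <;> simp [Nat.ModEq] at e ⊢
  rcases (by omega : m = 1 ∨ m = 2) with rfl | rfl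
  · obtain ⟨u, hu, hu0⟩ := (Submodule.ne_bot_iff (W 1)).1 (fun e => by
      have := hW 1 (by decide); rw [e, finrank_bot] at this; omega)
    have hb := finrank_range_le_mates (C.B u) W (iSup_eigen_roots hζ h5' hg5) (fun i => 4 - i)
      (hzero u hu) (fun _ => 1) (fun i => by
        fin_cases i
        · exact Or.inr (hW _ (by decide)).symm
        all_goals exact Or.inl (hW _ (by decide)).symm)
    have := C.ten_le u hu0
    simp only [Finset.sum_const, Finset.card_univ, Fintype.card_fin, smul_eq_mul] at hb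
    omega
  -- a vector whose block on the middle eigenspace is singular
  let b1 := Module.finBasisOfFinrankEq K (W 1) (hW 1 (by decide))
  let b2 := Module.finBasisOfFinrankEq K (W 2) (hW 2 (by decide))
  let M : V → Fin 2 → Fin 2 → K := fun u i j => C.B u (b2 i) (b2 j)
  let det2 : V → K := fun u => M u 0 0 * M u 1 1 - M u 0 1 * M u 1 0
  obtain ⟨u, hu, hu0, hdet⟩ : ∃ u ∈ W 1, u ≠ 0 ∧ det2 u = 0 := by
    let A := det2 (b1 0)
    by_cases hA : A = 0
    · exact ⟨b1 0, (b1 0).2, fun e => b1.ne_zero 0 (Subtype.ext e), hA⟩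
    let Bc := M (b1 0) 0 0 * M (b1 1) 1 1 + M (b1 1) 0 0 * M (b1 0) 1 1 -
      M (b1 0) 0 1 * M (b1 1) 1 0 - M (b1 1) 0 1 * M (b1 0) 1 0
    obtain ⟨x, hx⟩ := IsAlgClosed.exists_root
      (Polynomial.C A * Polynomial.X ^ 2 + Polynomial.C Bc * Polynomial.X +
        Polynomial.C (det2 (b1 1))) (by
        rw [Polynomial.degree_quadratic hA]; norm_num)
    refine ⟨x • (b1 0 : V) + b1 1, add_mem (Submodule.smul_mem _ _ (b1 0).2) (b1 1).2, fun e => ?_,
      ?_⟩
    · have h := congrArg (fun z => b1.repr z 1)
        (show x • b1 0 + b1 1 = 0 from Subtype.ext e)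
      simp at h
    · simp only [Polynomial.IsRoot.def, Polynomial.eval_add, Polynomial.eval_mul,
        Polynomial.eval_C, Polynomial.eval_pow, Polynomial.eval_X] at hx
      simp only [A, Bc, det2, M] at hx ⊢
      simp only [map_add, map_smul, LinearMap.add_apply, LinearMap.smul_apply, smul_eq_mul]
      linear_combination hx
  obtain ⟨α, β, hne, h0, h1⟩ : ∃ α β : K, (α ≠ 0 ∨ β ≠ 0) ∧
      α * M u 0 0 + β * M u 1 0 = 0 ∧ α * M u 0 1 + β * M u 1 1 = 0 := by
    simp only [det2] at hdet
    by_cases h1 : M u 1 0 ≠ 0 ∨ M u 0 0 ≠ 0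
    · exact ⟨M u 1 0, -M u 0 0, h1.imp id neg_ne_zero.2, by ring, by linear_combination -hdet⟩
    push Not at h1
    by_cases h2 : M u 1 1 ≠ 0 ∨ M u 0 1 ≠ 0
    · exact ⟨M u 1 1, -M u 0 1, h2.imp id neg_ne_zero.2,
        by rw [h1.1, h1.2]; ring, by ring⟩
    push Not at h2
    exact ⟨1, 0, Or.inl one_ne_zero, by simp [h1.2], by simp [h2.2]⟩
  let a : W 2 := α • b2 0 + β • b2 1
  have ha0 : a ≠ 0 := fun e => by
    have e0 := congrArg (fun z => b2.repr z 0) e
    have e1 := congrArg (fun z => b2.repr z 1) e
    simp [a] at e0 e1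
    rcases hne with h | h
    exacts [h e0, h e1]
  let q : W 2 →ₗ[K] Module.Dual K V := (C.B u).comp (W 2).subtype
  have hqa : q a = 0 := by
    refine LinearMap.ext fun v => ?_
    have hv : v ∈ ⨆ i, W i := iSup_eigen_roots hζ h5' hg5 ▸ Submodule.mem_top
    refine Submodule.iSup_induction (motive := fun v => q a v = (0 : Module.Dual K V) v) _ hv
      (fun j w hw => ?_) (by simp) fun x y hx hy => by rw [(q a).map_add, (0 : Module.Dual K V).map_add, hx, hy]
    by_cases hj : j = 2
    · subst hj
      have hw' : (⟨w, hw⟩ : W 2) ∈ Submodule.span K (Set.range b2) :=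
        b2.span_eq ▸ Submodule.mem_top
      have : ∀ z ∈ Submodule.span K (Set.range b2), C.B u (a : V) (z : W 2) = 0 := by
        intro z hz
        induction hz using Submodule.span_induction with
        | mem x hx =>
          obtain ⟨k, rfl⟩ := hx
          simp only [a, Submodule.coe_add, Submodule.coe_smul, map_add, map_smul,
            LinearMap.add_apply, LinearMap.smul_apply, smul_eq_mul]
          fin_cases k
          exacts [h0, h1]
        | zero => simp
        | add x y _ _ hx hy => simp [hx, hy]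
        | smul c x _ hx => simp [hx]
      exact this _ hw'
    · exact hzero u hu 2 j hj a a.2 w hw
  have h2le : finrank K ((W 2).map (C.B u)) ≤ 1 := by
    have e : LinearMap.range q = (W 2).map (C.B u) := by
      rw [LinearMap.range_comp, Submodule.range_subtype]
    have h := LinearMap.finrank_range_add_finrank_ker q
    have hk : 1 ≤ finrank K (LinearMap.ker q) :=
      Submodule.one_le_finrank_iff.2 ((Submodule.ne_bot_iff _).2 ⟨a, hqa, ha0⟩)
    rw [hW 2 (by decide), e] at h
    omega
  have hb := finrank_range_le (C.B u) W (iSup_eigen_roots hζ h5' hg5)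
  rw [Fin.sum_univ_five] at hb
  have hmap : ∀ i : Fin 5, i.val ≠ 0 → finrank K ((W i).map (C.B u)) ≤ 2 := fun i hi =>
    (Submodule.finrank_map_le _ _).trans (hW i hi).le
  have h0le : finrank K ((W 0).map (C.B u)) ≤ 2 := by
    refine (finrank_map_le _ (W 0) (W 4) (⨆ (j) (_ : j ≠ (4 : Fin 5)), W j) ?_ fun a ha b hb =>
      apply_eq_zero_of_iSup (C.B u) W (fun j hj b hb => hzero u hu 0 j hj a ha b hb) hb).trans
      (hW 4 (by decide)).le
    rw [eq_top_iff, ← iSup_eigen_roots hζ h5' hg5]
    refine iSup_le fun j => ?_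
    by_cases hj : j = 4
    · exact hj ▸ le_sup_right
    · exact le_sup_of_le_left (le_iSup₂_of_le j hj le_rfl)
  have := C.ten_le u hu0
  have := hmap 1 (by decide)
  have := hmap 3 (by decide)
  have := hmap 4 (by decide)
  omega

end Small

end CfsgLib.AltSectESix
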