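import Cfsg.Agent.AltSectESix.FactorThree
import Cfsg.Agent.AltSectESix.FactorFive

/-!
# No large alternating sections in a group preserving a cube form

A finite group of isometries of a cube form on at most 27 dimensions in characteristic `p` has
no alternating quotient of degree thirteen, and none of degree twelve unless `p` is 2, 3 or 5.
-/

set_option autoImplicit false
set_option linter.unusedSectionVars false
set_option maxHeartbeats 800000

namespace CfsgLib.AltSectESix

open Module Equiv Equiv.Perm CfsgAltMinDeg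
open scoped commutatorElement

variable {K : Type} [Field K] {V : Type} [AddCommGroup V] [Module K V] [FiniteDimensional K V]

theorem finrank_eigen_one {μ : K} (hμ : μ ≠ 1) :
    finrank K (Module.End.eigenspace (1 : Module.End K V) μ) = 0 := by
  rw [Submodule.finrank_eq_zero, Submodule.eq_bot_iff]
  intro v hv
  rw [Module.End.mem_eigenspace_iff, Module.End.one_apply] at hv
  have : (μ - 1) • v = 0 := by rw [sub_smul, one_smul, ← hv, sub_self]
  exact (smul_eq_zero.1 this).resolve_left (sub_ne_zero.2 hμ)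

/-- The rank along an invariant subspace. -/
theorem rank_sub_one_split {T : Module.End K V} (W : Submodule K V) (hW : ∀ w ∈ W, T w ∈ W) :
    finrank K (LinearMap.range (T - 1)) ≤
        finrank K (LinearMap.range (T.restrict hW - 1)) + finrank K (V ⧸ W) ∧
      finrank K (LinearMap.range (T - 1)) ≤
        finrank K W + finrank K (LinearMap.range (W.mapQ W T hW - 1)) := by
  constructor
  · have h1 : finrank K (LinearMap.ker (T.restrict hW - 1)) ≤ finrank K (LinearMap.ker (T - 1)) := by
      refine LinearMap.finrank_le_finrank_of_injective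
        (f := (W.subtype.comp (LinearMap.ker (T.restrict hW - 1)).subtype).codRestrict _ fun w => ?_)
        fun a b h => by
          have h' := congrArg Subtype.val h
          exact Subtype.ext (Subtype.ext h')
      exact LinearMap.mem_ker.2 (congrArg Subtype.val (LinearMap.mem_ker.1 w.2))
    have h2 := LinearMap.finrank_range_add_finrank_ker (T - 1)
    have h3 := LinearMap.finrank_range_add_finrank_ker (T.restrict hW - 1)
    have h4 := W.finrank_quotient_add_finrank
    omega
  · let π : LinearMap.range (T - 1) →ₗ[K] V ⧸ W :=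
      W.mkQ.comp (LinearMap.range (T - 1)).subtype
    have h1 := LinearMap.finrank_range_add_finrank_ker π
    have h2 : finrank K (LinearMap.range π) ≤
        finrank K (LinearMap.range (W.mapQ W T hW - 1)) := by
      refine Submodule.finrank_mono ?_
      rintro _ ⟨⟨_, v, rfl⟩, rfl⟩
      exact ⟨Submodule.Quotient.mk v, by simp [π]⟩
    have h3 : finrank K (LinearMap.ker π) ≤ finrank K W := by
      refine LinearMap.finrank_le_finrank_of_injective
        (f := ((LinearMap.range (T - 1)).subtype.comp (LinearMap.ker π).subtype).codRestrict W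
          fun w => (Submodule.Quotient.mk_eq_zero W).1 (LinearMap.mem_ker.1 w.2))
        fun a b h => by
          have h' := congrArg Subtype.val h
          exact Subtype.ext (Subtype.ext h')
    omega

theorem unipotent_triv {T : Module.End K V} (hT : T = 1) : (T - 1) ^ finrank K V = 0 := by
  rcases Nat.eq_zero_or_pos (finrank K V) with h | h
  · haveI : Subsingleton V := Module.finrank_zero_iff.1 h
    exact LinearMap.ext fun v => Subsingleton.elim _ _
  · rw [hT, sub_self, zero_pow h.ne']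

variable [IsAlgClosed K] {H : Type} [Group H] [Finite H]

/-- Degrees twelve and thirteen away from characteristic three. -/
theorem no_three {r : ℕ} (X : Ctx K V r H) (p : ℕ) [hp : Fact p.Prime] [CharP K p] (hp3 : p ≠ 3)
    (hspin : (r = 12 → (2 : K) ≠ 0 ∧ (5 : K) ≠ 0) ∧ (r = 13 → (11 : K) ≠ 0)) : False := by
  have hr9 : 9 ≤ r := X.nine_le
  have hdeg := X.degree
  have h3 : (3 : K) ≠ 0 := fun e => hp3
    ((Nat.prime_dvd_prime_iff_eq hp.out Nat.prime_three).1
      ((CharP.cast_eq_zero_iff K p 3).1 (by simpa using e)))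
  obtain ⟨ω, hω⟩ := exists_omega (K := K)
  let f : Fin 5 ↪ Fin r := ⟨Fin.castLE (by omega), Fin.castLE_injective _⟩
  have hnd : [f 0, f 1, f 2, f 3, f 4].Nodup := nodup_of_embedding f [0, 1, 2, 3, 4] (by decide)
  have hnd3 : [f 0, f 1, f 2].Nodup := nodup_of_embedding f [0, 1, 2] (by decide)
  obtain ⟨ha, hb, hc⟩ := IsAltRep.nodup_three hnd
  obtain ⟨x, hx⟩ := X.surj (cyc (f 0) (f 1) (f 3))
  obtain ⟨y, hy⟩ := X.surj (cyc (f 0) (f 2) (f 4))
  let t : H := ⁅x, y⁆ ^ 4
  have ht : X.φ t = cyc (f 0) (f 1) (f 2) := by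
    simp only [t, map_pow, map_commutatorElement, hx, hy, commutator_cyc hnd,
      cyc_eq_one_of_pow ha hb hc]
  have halt : ∀ {F : Type} [AddCommGroup F] [Module K F] {σ : H →* Module.End K F}
      (hR : IsAltRep σ X.φ), σ t = hR.L (f 0) (f 1) (f 2) := by
    intro F _ _ σ hR
    rw [hR.L_eq hr9 hnd]
    simp only [t, map_pow]
    rw [hR.rho_comm_congr (x' := hR.lift (cyc (f 0) (f 1) (f 3)))
      (y' := hR.lift (cyc (f 0) (f 2) (f 4))) (by rw [hx, hR.map_lift]) (by rw [hy, hR.map_lift])]
    rfl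
  -- the cube is unipotent
  have h1 : (X.ρ (t ^ 3) - 1) ^ finrank K V = 0 :=
    constituent_induction X p (fun F _ _ _ σ => (σ (t ^ 3) - 1) ^ finrank K F = 0)
      (fun F _ _ _ σ h => unipotent_triv (h _))
      (fun F _ _ _ σ _ _ _ hR => unipotent_triv (by rw [map_pow, halt hR, hR.L_cube hr9 hnd3]))
      (fun F _ _ _ σ W hW _ i1 i2 => by
        rw [← W.finrank_quotient_add_finrank, add_comm]
        exact unipotent_extend W (hW (t ^ 3)) i1 i2)
  have hp2 := hp.out.two_le
  have h27 : finrank K V ≤ p ^ 27 :=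
    X.dim.trans ((Nat.lt_two_pow_self).le.trans (Nat.pow_le_pow_left hp2 27))
  have h2 : t ^ (3 * p ^ 27) = 1 := X.inj (by
    rw [map_one, pow_mul, map_pow]; exact pow_char_eq_one h1 h27)
  have hmod : p ^ 54 % 3 = 1 := by
    have h0 : p % 3 = 1 ∨ p % 3 = 2 := by
      have : ¬ 3 ∣ p := fun h => hp3 ((Nat.prime_dvd_prime_iff_eq Nat.prime_three hp.out).1 h).symm
      omega
    rw [Nat.pow_mod]
    rcases h0 with e | e <;> rw [e] <;> norm_num
  let u : H := t ^ p ^ 54
  have hu3 : u ^ 3 = 1 := by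
    have e : p ^ 54 * 3 = 3 * p ^ 27 * p ^ 27 := by ring
    rw [← pow_mul, e, pow_mul, h2, one_pow]
  have haltu : ∀ {F : Type} [AddCommGroup F] [Module K F] {σ : H →* Module.End K F}
      (hR : IsAltRep σ X.φ), σ u = hR.L (f 0) (f 1) (f 2) := by
    intro F _ _ σ hR
    rw [map_pow, halt hR, pow_eq_pow_mod _ (hR.L_cube hr9 hnd3), hmod, pow_one]
  obtain ⟨hd, h8⟩ :
      finrank K (Module.End.eigenspace (X.ρ u) (ω * ω)) =
          finrank K (Module.End.eigenspace (X.ρ u) ω) ∧
        8 * finrank K (Module.End.eigenspace (X.ρ u) ω) ≤ finrank K V := by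
    refine constituent_induction X p (fun F _ _ _ σ =>
      finrank K (Module.End.eigenspace (σ u) (ω * ω)) =
          finrank K (Module.End.eigenspace (σ u) ω) ∧
        8 * finrank K (Module.End.eigenspace (σ u) ω) ≤ finrank K F)
      (fun F _ _ _ σ h => ?_) (fun F _ _ _ σ hn hpos hirr hR => ?_)
      (fun F _ _ _ σ W hW _ i1 i2 => ?_)
    · rw [h u, finrank_eigen_one (omega_ne_one h3 hω),
        finrank_eigen_one (omega_ne_one h3 (omega_sq hω))]
      exact ⟨rfl, Nat.zero_le _⟩
    · rw [haltu hR]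
      exact ⟨(dims hR hr9 h3 hω hnd3).1, factor_three hR hirr hdeg h3 hspin hn hpos hω hnd3⟩
    · have hT : σ u ^ 3 = 1 := by rw [← map_pow, hu3, map_one]
      have h3' : ((3 : ℕ) : K) ≠ 0 := by simpa using h3
      rw [finrank_eigen_split h3' hT W (hW u) ω, finrank_eigen_split h3' hT W (hW u) (ω * ω),
        ← W.finrank_quotient_add_finrank]
      refine ⟨congrArg₂ (· + ·) i1.1 i2.1, ?_⟩
      rw [mul_add, add_comm (finrank K (F ⧸ W))]
      exact Nat.add_le_add i1.2 i2.2
  have hm : finrank K (Module.End.eigenspace (X.ρ u) ω) ≤ 3 := by have := X.dim; omega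
  have hu1 : u = 1 := X.inj (by
    rw [map_one]
    exact eq_one_of_order_three X.C (X.pres u) h3 (by rw [← map_pow, hu3, map_one]) hω hm rfl hd)
  refine cyc_ne_one ha hb hc ?_
  have := congrArg X.φ hu1
  rwa [map_one, map_pow, ht, pow_eq_pow_mod _ (cyc_cube ha hb hc), hmod, pow_one] at this

/-- Degree thirteen in characteristic three. -/
theorem no_five (X : Ctx K V 13 H) [CharP K 3] : False := by
  haveI : Fact (Nat.Prime 3) := ⟨Nat.prime_three⟩
  have h3 : (3 : K) = 0 := by exact_mod_cast CharP.cast_eq_zero K 3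
  have h5 : ((5 : ℕ) : K) ≠ 0 := fun e => by
    have := (CharP.cast_eq_zero_iff K 3 5).1 e
    omega
  haveI : NeZero ((5 : ℕ) : K) := ⟨h5⟩
  obtain ⟨ζ, hζ'⟩ := IsAlgClosed.exists_root (Polynomial.cyclotomic 5 K)
    (Polynomial.degree_cyclotomic_pos 5 K (by norm_num)).ne'
  have hζ : IsPrimitiveRoot ζ 5 := Polynomial.isRoot_cyclotomic_iff.1 hζ'
  obtain ⟨t, ht⟩ := X.surj tauA
  obtain ⟨s, hs⟩ := X.surj sigA
  obtain ⟨a, ha⟩ := X.surj (cyc 10 11 5)
  obtain ⟨b, hb⟩ := X.surj (cyc 10 12 6)
  let y : H := ⁅t, s⁆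
  let x : H := ⁅a, b⁆
  have hφy : X.φ y = sigA := by
    rw [map_commutatorElement, ht, hs, commutatorElement_def, five_facts.1.2.2, pow_two,
      mul_inv_cancel_right]
  have halty : ∀ {F : Type} [AddCommGroup F] [Module K F] {σ : H →* Module.End K F}
      (hR : IsAltRep σ X.φ), σ y = fiveOp hR tauA sigA := fun {F} _ _ {σ} hR =>
    hR.rho_comm_congr (by rw [ht, hR.map_lift]) (by rw [hs, hR.map_lift])
  have haltx : ∀ {F : Type} [AddCommGroup F] [Module K F] {σ : H →* Module.End K F}
      (hR : IsAltRep σ X.φ), σ x = σ (hR.C5 10 11 12 5 6) := fun {F} _ _ {σ} hR =>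
    hR.rho_comm_congr (by rw [ha, hR.map_lift]) (by rw [hb, hR.map_lift])
  have hY5 : ∀ {F : Type} [AddCommGroup F] [Module K F] [FiniteDimensional K F]
      {σ : H →* Module.End K F} (hR : IsAltRep σ X.φ), 0 < finrank K F → σ y ^ 5 = 1 := by
    intro F _ _ _ σ hR hpos
    haveI : Nontrivial F := Module.nontrivial_of_finrank_pos hpos
    rw [halty hR]
    exact fiveOp_pow_five hR five_facts.1.2.2 five_facts.1.1
  have h1 : (X.ρ (y ^ 5) - 1) ^ finrank K V = 0 :=
    constituent_induction X 3 (fun F _ _ _ σ => (σ (y ^ 5) - 1) ^ finrank K F = 0)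
      (fun F _ _ _ σ h => unipotent_triv (h _))
      (fun F _ _ _ σ _ hpos _ hR => unipotent_triv (by rw [map_pow, hY5 hR hpos]))
      (fun F _ _ _ σ W hW _ i1 i2 => by
        rw [← W.finrank_quotient_add_finrank, add_comm]
        exact unipotent_extend W (hW (y ^ 5)) i1 i2)
  have h27 : finrank K V ≤ 3 ^ 4 := X.dim.trans (by norm_num)
  have h2 : y ^ (5 * 3 ^ 4) = 1 := X.inj (by
    rw [map_one, pow_mul, map_pow]; exact pow_char_eq_one h1 h27)
  let u : H := y ^ 3 ^ 4
  have hu5 : u ^ 5 = 1 := by rw [← pow_mul, mul_comm, h2]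
  obtain ⟨m, hm, h8, -, hrk⟩ : ∃ m,
      (∀ c : Fin 5, c.val ≠ 0 →
        finrank K (Module.End.eigenspace (X.ρ u) (ζ ^ c.val)) = m) ∧
      8 * m ≤ finrank K V ∧ (0 < m → 12 ≤ finrank K V) ∧
      (3 ≤ m → finrank K (LinearMap.range (X.ρ x - 1)) + 24 ≤ finrank K V) := by
    have key := fun h1 h2 h3 => constituent_induction X 3
      (fun F [AddCommGroup F] [Module K F] [FiniteDimensional K F] (σ : H →* Module.End K F) => ∃ m,
        (∀ c : Fin 5, c.val ≠ 0 →
          finrank K (Module.End.eigenspace (σ u) (ζ ^ c.val)) = m) ∧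
        8 * m ≤ finrank K F ∧ (0 < m → 12 ≤ finrank K F) ∧
        (3 ≤ m → finrank K (LinearMap.range (σ x - 1)) + 24 ≤ finrank K F)) h1 h2 h3
    refine key (fun F [AddCommGroup F] [Module K F] [FiniteDimensional K F] σ h => ?_)
      (fun F [AddCommGroup F] [Module K F] [FiniteDimensional K F] σ hn hpos _ hR => ?_)
      (fun F [AddCommGroup F] [Module K F] [FiniteDimensional K F] σ W hW hn i1 i2 => ?_)
    · refine ⟨0, fun c hc => ?_, Nat.zero_le _, by omega, by omega⟩
      rw [h u]
      exact finrank_eigen_one (hζ.pow_ne_one_of_pos_of_lt hc c.2)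
    · obtain ⟨m, hd, h8, h12, hr⟩ := factor_five hR h3 hn hpos hζ
      refine ⟨m, fun c hc => ?_, h8, fun _ => h12, fun hm => ?_⟩
      · rw [map_pow, pow_eq_pow_mod _ (hY5 hR hpos), show 3 ^ 4 % 5 = 1 by norm_num, pow_one,
          halty hR]
        exact hd c hc
      · rw [haltx hR]; omega
    · obtain ⟨m1, d1, e1, f1, g1⟩ := i1
      obtain ⟨m2, d2, e2, f2, g2⟩ := i2
      have hT : σ u ^ 5 = 1 := by rw [← map_pow, hu5, map_one]
      have hdim := W.finrank_quotient_add_finrank
      refine ⟨m1 + m2, fun c hc => ?_, by omega, fun h => ?_, fun h => ?_⟩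
      · rw [finrank_eigen_split h5 hT W (hW u)]
        exact congrArg₂ (· + ·) (d1 c hc) (d2 c hc)
      · rcases (by omega : 0 < m1 ∨ 0 < m2) with h' | h'
        · have := f1 h'; omega
        · have := f2 h'; omega
      · obtain ⟨r1, r2⟩ := rank_sub_one_split W (hW x)
        rcases (by omega : 3 ≤ m1 ∨ 3 ≤ m2 ∨ (0 < m1 ∧ 2 ≤ m2) ∨ (2 ≤ m1 ∧ 0 < m2)) with
          h' | h' | ⟨h', h''⟩ | ⟨h', h''⟩
        · have h'' : finrank K (LinearMap.range ((σ x).restrict (hW x) - 1)) + 24 ≤
              finrank K W := g1 h'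
          omega
        · have h'' : finrank K (LinearMap.range (W.mapQ W (σ x) (hW x) - 1)) + 24 ≤
              finrank K (F ⧸ W) := g2 h'
          omega
        · have := f1 h'; omega
        · have := f2 h''; omega
  have hdim := X.dim
  rcases (by omega : m ≤ 2 ∨ m = 3) with hm2 | rfl
  · have hu1 : u = 1 := X.inj (by
      rw [map_one]
      exact eq_one_of_order_five X.C (X.pres u) (by simpa using h5)
        (by rw [← map_pow, hu5, map_one]) hζ hm2 hm)
    have := congrArg X.φ hu1
    rw [map_one, map_pow, hφy, pow_eq_pow_mod _ five_facts.1.1, show 3 ^ 4 % 5 = 1 by norm_num,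
      pow_one] at this
    exact five_facts.1.2.1 this
  · have hx1 : x = 1 := X.inj (by
      rw [map_one]
      exact eq_one_of_rank_le X.C (X.pres x) (by have := hrk le_rfl; omega))
    have := congrArg X.φ hx1
    rw [map_one, map_commutatorElement, ha, hb, commutator_cyc (by decide)] at this
    exact cyc_ne_one (by decide) (by decide) (by decide) this

/-- A minimal subgroup mapped onto the alternating group of degree twelve or thirteen. -/
theorem exists_ctx {G : Type} [Group G] [Finite G] (C : CubeForm K V) (hdim : finrank K V ≤ 27)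
    (ρ : G →* Module.End K V) (hinj : Function.Injective ρ) (hpres : ∀ g, C.Pres (ρ g)) {N r : ℕ}
    (hr : r = 12 ∨ r = 13) (hrN : r ≤ N) (φ : G →* alternatingGroup (Fin N))
    (hφ : Function.Surjective φ) : ∃ S : Subgroup G, Nonempty (Ctx K V r S) := by
  classical
  let e : Fin r ↪ Fin N := ⟨Fin.castLE hrN, Fin.castLE_injective hrN⟩
  let R := (CfsgAltMinDeg.embA e).range
  let iso : alternatingGroup (Fin r) ≃* R := MonoidHom.ofInjective (embA_injective e)
  let G₁ : Subgroup G := R.comap φ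
  let φ₁ : G₁ →* alternatingGroup (Fin r) := iso.symm.toMonoidHom.comp (φ.subgroupComap R)
  have hφ₁ : Function.Surjective φ₁ := iso.symm.surjective.comp fun ⟨σ, hσ⟩ => by
    obtain ⟨g, rfl⟩ := hφ σ
    exact ⟨⟨g, hσ⟩, rfl⟩
  let P : ℕ → Prop := fun k => ∃ S : Subgroup G₁, S.map φ₁ = ⊤ ∧ Nat.card S = k
  have hP : ∃ k, P k := ⟨_, ⊤, Subgroup.map_top_of_surjective _ hφ₁, rfl⟩
  obtain ⟨S, hS, hSc⟩ := Nat.find_spec hP
  let S' : Subgroup G := S.map G₁.subtype
  let eS : S ≃* S' := S.equivMapOfInjective G₁.subtype G₁.subtype_injective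
  let φ' : S' →* alternatingGroup (Fin r) := (φ₁.comp S.subtype).comp eS.symm.toMonoidHom
  refine ⟨S', ⟨⟨C, ρ.comp S'.subtype, φ', hr, hdim, hinj.comp S'.subtype_injective,
    fun h => hpres _, ?_, ?_⟩⟩⟩
  · intro σ
    obtain ⟨g, hg, e'⟩ := (hS.symm ▸ Subgroup.mem_top σ : σ ∈ S.map φ₁)
    exact ⟨eS ⟨g, hg⟩, by simp [φ', e']⟩
  · intro T hT
    let T₁ : Subgroup G₁ := (T.map eS.symm.toMonoidHom).map S.subtype
    have h1 : T₁.map φ₁ = ⊤ := by
      rw [← hT, Subgroup.map_map, Subgroup.map_map]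
    have hle := hSc ▸ Nat.find_le (h := hP) (n := Nat.card T₁) ⟨T₁, h1, rfl⟩
    have hcard : Nat.card T₁ = Nat.card T := by
      rw [Subgroup.card_map_of_injective S.subtype_injective,
        Subgroup.card_map_of_injective eS.symm.injective]
    refine Subgroup.eq_top_of_le_card T ?_
    rw [← Nat.card_congr eS.toEquiv, ← hcard]
    exact hle

/-- The bound on alternating quotients. -/
theorem degree_le (p : ℕ) [hp : Fact p.Prime] [CharP K p] {G : Type} [Group G] [Finite G]
    (C : CubeForm K V) (hdim : finrank K V ≤ 27) (ρ : G →* Module.End K V)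
    (hinj : Function.Injective ρ) (hpres : ∀ g, C.Pres (ρ g)) {N : ℕ}
    (φ : G →* alternatingGroup (Fin N)) (hφ : Function.Surjective φ) :
    N ≤ 11 + (if p = 2 ∨ p = 3 ∨ p = 5 then 1 else 0) := by
  by_contra hN
  have hne : ∀ q : ℕ, q.Prime → p ≠ q → ((q : ℕ) : K) ≠ 0 := fun q hq hpq e =>
    hpq ((Nat.prime_dvd_prime_iff_eq hp.out hq).1 ((CharP.cast_eq_zero_iff K p q).1 e))
  by_cases hsp : p = 2 ∨ p = 3 ∨ p = 5
  · rw [if_pos hsp] at hN
    obtain ⟨S, ⟨X⟩⟩ := exists_ctx C hdim ρ hinj hpres (r := 13) (Or.inr rfl) (by omega) φ hφ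
    by_cases hp3 : p = 3
    · subst hp3; exact no_five X
    · refine no_three X p hp3 ⟨by norm_num, fun _ => ?_⟩
      simpa using hne 11 (by norm_num) (by omega)
  · rw [if_neg hsp] at hN
    push Not at hsp
    obtain ⟨S, ⟨X⟩⟩ := exists_ctx C hdim ρ hinj hpres (r := 12) (Or.inl rfl) (by omega) φ hφ
    exact no_three X p hsp.2.1 ⟨fun _ => ⟨by simpa using hne 2 Nat.prime_two hsp.1,
      by simpa using hne 5 (by norm_num) hsp.2.2⟩, by norm_num⟩

end CfsgLib.AltSectESix
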