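import Cfsg.Agent.Perm69.JordanPrime
import Cfsg.Agent.AltMinDeg.Setup

/-!
# Subgroups of small index in alternating groups of degree twelve and thirteen

A proper subgroup of index at most 27 fixes exactly one point.
-/

set_option autoImplicit false

namespace CfsgLib.AltSectESix

open Equiv Equiv.Perm MulAction
open scoped Pointwise

variable {r : ℕ}

/-- An element of prime power order has a conjugate in a subgroup of index prime to that prime. -/
theorem exists_conj_mem {G : Type*} [Group G] [Finite G] {q : ℕ} [Fact q.Prime] (S : Subgroup G)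
    (hq : ¬ q ∣ S.index) {x : G} (hx : x ^ q = 1) : ∃ g : G, g⁻¹ * x * g ∈ S := by
  have hP : IsPGroup q (Subgroup.zpowers x) := by
    rintro ⟨y, hy⟩
    obtain ⟨k, rfl⟩ := Subgroup.mem_zpowers_iff.1 hy
    refine ⟨1, Subtype.ext ?_⟩
    show (x ^ k) ^ q ^ 1 = 1
    rw [pow_one, ← zpow_natCast, ← zpow_mul, mul_comm, zpow_mul, zpow_natCast, hx, one_zpow]
  have h := hP.card_modEq_card_fixedPoints (G ⧸ S)
  have hne : Nat.card (fixedPoints (Subgroup.zpowers x) (G ⧸ S)) ≠ 0 := by
    intro h0
    rw [h0, ← Subgroup.index_eq_card] at h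
    exact hq (Nat.modEq_zero_iff_dvd.1 h)
  obtain ⟨⟨c, hc⟩⟩ := (Nat.card_ne_zero.1 hne).1
  obtain ⟨g, rfl⟩ := QuotientGroup.mk_surjective c
  refine ⟨g, ?_⟩
  have e : x • (g : G ⧸ S) = g := hc ⟨x, Subgroup.mem_zpowers x⟩
  have := QuotientGroup.eq.1 e.symm
  simpa [smul_eq_mul, mul_assoc] using this

/-- A cycle of prime length `q ≤ r - 2` in a subgroup of index prime to `q`. -/
theorem exists_cycle (S : Subgroup (alternatingGroup (Fin r))) {q : ℕ} (hq : q.Prime)
    (hq2 : q ≠ 2) (hqr : q ≤ r) (hS : ¬ q ∣ S.index) :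
    ∃ g ∈ S, (g : Perm (Fin r)).IsCycle ∧ (g : Perm (Fin r)).support.card = q := by
  haveI := Fact.mk hq
  obtain ⟨s, -, hs⟩ := Finset.exists_subset_card_eq (n := q)
    (s := (Finset.univ : Finset (Fin r))) (by simpa using hqr)
  let c : Perm (Fin r) := s.toList.formPerm
  have hnd : s.toList.Nodup := s.nodup_toList
  have hlen : s.toList.length = q := by rw [Finset.length_toList, hs]
  have hcyc : c.IsCycle := List.isCycle_formPerm hnd (by rw [hlen]; exact hq.two_le)
  have hsupp : c.support.card = q := by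
    rw [List.support_formPerm_of_nodup _ hnd (fun x e => by
      rw [e] at hlen; simp at hlen; exact absurd hlen.symm hq.one_lt.ne'), Finset.toList_toFinset, hs]
  have halt : c ∈ alternatingGroup (Fin r) := by
    rw [mem_alternatingGroup, hcyc.sign, hsupp, (hq.odd_of_ne_two hq2).neg_one_pow]
    rfl
  have hpow : (⟨c, halt⟩ : alternatingGroup (Fin r)) ^ q = 1 := Subtype.ext (by
    rw [Subgroup.coe_pow, Subgroup.coe_one, ← hsupp, ← hcyc.orderOf, pow_orderOf_eq_one])
  obtain ⟨g, hg⟩ := exists_conj_mem S hS hpow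
  refine ⟨_, hg, ?_, ?_⟩
  · rw [Subgroup.coe_mul, Subgroup.coe_mul, Subgroup.coe_inv]
    simpa using hcyc.conj (g := (g : Perm (Fin r))⁻¹)
  · rw [Subgroup.coe_mul, Subgroup.coe_mul, Subgroup.coe_inv]
    have := card_support_conj (σ := (g : Perm (Fin r))⁻¹) (τ := c)
    simpa [hsupp] using this

/-- A transitive group of degree at most thirteen containing a long prime cycle is primitive. -/
theorem primitive_of_cycle (hr : r = 12 ∨ r = 13) (P : Subgroup (Perm (Fin r)))
    [IsPretransitive P (Fin r)] {g : Perm (Fin r)} (hg : g ∈ P) (hgc : g.IsCycle) {q : ℕ}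
    (hq : q.Prime) (hq7 : 7 ≤ q) (hgq : g.support.card = q) : IsPreprimitive P (Fin r) := by
  obtain ⟨b, hb⟩ : ∃ b, g b ≠ b := ⟨_, hgc.choose_spec.1⟩
  refine IsPreprimitive.of_isTrivialBlock_base b fun {B} hbB hB => ?_
  rw [MulAction.IsTrivialBlock, or_iff_not_imp_left, Set.not_subsingleton_iff]
  intro hnt
  have hdvd := hB.ncard_dvd_card ⟨b, hbB⟩
  rw [Nat.card_eq_fintype_card, Fintype.card_fin] at hdvd
  have h2 : 2 ≤ B.ncard := Set.one_lt_ncard_iff_nontrivial.2 hnt
  -- some proper power of the cycle stabilises the block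
  by_cases hfix : ∃ i, 0 < i ∧ i < q ∧ (g ^ i) • B = B
  · obtain ⟨i, hi0, hiq, hi⟩ := hfix
    have hord : orderOf g = q := by rw [hgc.orderOf, hgq]
    obtain ⟨k, hk⟩ := exists_pow_eq_self_of_coprime (x := g) (n := i) (by
      rw [hord]; exact ((Nat.coprime_of_lt_prime (by omega) hiq hq).symm))
    have hgB : g • B = B := by
      rw [← hk]
      exact MulAction.mem_stabilizer_iff.1 (pow_mem (MulAction.mem_stabilizer_iff.2 hi) k)
    have hsub : (g.support : Set (Fin r)) ⊆ B := by
      intro x hx
      obtain ⟨j, rfl⟩ := hgc.exists_pow_eq hb (Perm.mem_support.1 hx)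
      have := Set.smul_mem_smul_set (a := g ^ j) hbB
      rwa [MulAction.mem_stabilizer_iff.1 (pow_mem (MulAction.mem_stabilizer_iff.2 hgB) j)] at this
    have hqB : q ≤ B.ncard := by
      rw [← hgq, ← Set.ncard_coe_finset]; exact Set.ncard_le_ncard hsub B.toFinite
    refine Set.eq_univ_of_forall fun x => ?_
    have hall : B.ncard = Nat.card (Fin r) := by
      rw [Nat.card_eq_fintype_card, Fintype.card_fin]
      obtain ⟨t, ht⟩ := hdvd
      rcases t with _ | _ | t
      · omega
      · omega
      · have : B.ncard * 2 ≤ r := le_of_le_of_eq (Nat.mul_le_mul_left _ (by omega)) ht.symm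
        omega
    rw [← Set.ncard_univ] at hall
    exact (Set.eq_of_subset_of_ncard_le (Set.subset_univ B) hall.ge Set.finite_univ).symm ▸
      Set.mem_univ x
  · push Not at hfix
    exfalso
    classical
    let T : Fin q → Finset (Fin r) := fun i => ((g ^ (i : ℕ)) • B).toFinset
    have hcard : ∀ i, (T i).card = B.ncard := fun i => by
      rw [← Set.ncard_eq_toFinset_card', Set.ncard_smul_set]
    have hdisj : (↑(Finset.univ : Finset (Fin q)) : Set (Fin q)).PairwiseDisjoint T := by
      intro i _ j _ hij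
      have key : ∀ i j : Fin q, i < j → (g ^ (i : ℕ)) • B ≠ (g ^ (j : ℕ)) • B := by
        intro i j h e
        refine hfix (j - i) (by omega) (by omega) ?_
        have : g ^ (j : ℕ) = g ^ (i : ℕ) * g ^ ((j : ℕ) - i) := by
          rw [← pow_add]; congr 1; omega
        rw [this, mul_smul] at e
        exact ((smul_left_cancel_iff _).1 e).symm
      have hne : (g ^ (i : ℕ)) • B ≠ (g ^ (j : ℕ)) • B := by
        rcases lt_or_gt_of_ne hij with h | h
        · exact key i j h
        · exact (key j i h).symm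
      have := hB (g₁ := (⟨g, hg⟩ : P) ^ (i : ℕ)) (g₂ := (⟨g, hg⟩ : P) ^ (j : ℕ)) hne
      show Disjoint (T i) (T j)
      simp only [T]
      rw [Set.disjoint_toFinset]
      exact this
    have hle : q * B.ncard ≤ r := by
      calc q * B.ncard = ∑ i, (T i).card := by simp [hcard]
        _ = (Finset.univ.biUnion T).card := (Finset.card_biUnion hdisj).symm
        _ ≤ r := (Finset.card_le_univ _).trans_eq (Fintype.card_fin r)
    have : q * 2 ≤ q * B.ncard := Nat.mul_le_mul_left _ h2
    omega

/-- A proper subgroup of index at most 27 is intransitive. -/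
theorem not_transitive (hr : r = 12 ∨ r = 13) (S : Subgroup (alternatingGroup (Fin r)))
    (hne : S ≠ ⊤) (hi : S.index ≤ 27) :
    ¬ IsPretransitive (S.map (alternatingGroup (Fin r)).subtype) (Fin r) := by
  intro htr
  apply hne
  have h0 : 0 < S.index := Nat.pos_of_ne_zero Subgroup.index_ne_zero_of_finite
  obtain ⟨q, hq, hq7, hq'⟩ : ∃ q, Nat.Prime q ∧ 7 ≤ q ∧ (q ≤ r ∧ ¬ q ∣ S.index) := by
    by_cases h7 : 7 ∣ S.index
    · exact ⟨11, by norm_num, by norm_num, by omega, by omega⟩
    · exact ⟨7, by norm_num, le_rfl, by omega, h7⟩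
  obtain ⟨g, hgS, hgc, hgq⟩ := exists_cycle S hq (by omega) hq'.1 hq'.2
  have hprim := primitive_of_cycle hr (S.map (alternatingGroup (Fin r)).subtype)
    (Subgroup.mem_map_of_mem (alternatingGroup (Fin r)).subtype hgS) hgc hq hq7 hgq
  obtain ⟨p, hp, hp', hp''⟩ : ∃ p, Nat.Prime p ∧ p + 3 ≤ r ∧ (p ≠ 2 ∧ ¬ p ∣ S.index) := by
    by_cases h7 : 7 ∣ S.index
    · exact ⟨5, by norm_num, by omega, by omega, by omega⟩
    · exact ⟨7, by norm_num, by omega, by omega, h7⟩
  obtain ⟨c, hcS, hcc, hcp⟩ := exists_cycle S hp hp''.1 (by omega) hp''.2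
  have hle := CfsgLib.JordanPrime.alternatingGroup_le_of_prime_cycle hprim hp (by simpa using hp')
    hcc hcp (Subgroup.mem_map_of_mem (alternatingGroup (Fin r)).subtype hcS)
  refine eq_top_iff.2 fun x _ => ?_
  obtain ⟨y, hy, e⟩ := hle x.2
  exact Subtype.coe_injective e ▸ hy

/-- A proper subgroup of index at most 27 fixes exactly one point. -/
theorem exists_unique_fixed (hr : r = 12 ∨ r = 13) (S : Subgroup (alternatingGroup (Fin r)))
    (hne : S ≠ ⊤) (hi : S.index ≤ 27) : ∃! i : Fin r, ∀ g ∈ S, (g : Perm (Fin r)) i = i := by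
  classical
  -- the translates of an invariant finset
  have hbound : ∀ B : Finset (Fin r), (∀ g ∈ S, B.image (g : Perm (Fin r)) = B) →
      2 ≤ B.card → B.card + 2 ≤ r → False := by
    intro B hB h2 hr2
    let e : alternatingGroup (Fin r) ⧸ S → Finset (Fin r) := fun x =>
      B.image (x.out : alternatingGroup (Fin r))
    have hsur : (Finset.univ : Finset (Fin r)).powersetCard B.card ⊆
        Finset.image e Finset.univ := by
      intro C hC
      obtain ⟨-, hC⟩ := Finset.mem_powersetCard.1 hC
      obtain ⟨σ, hσ⟩ := CfsgAltMinDeg.exists_map_fin B.toList C.toList B.nodup_toList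
        C.nodup_toList (by simp [hC]) (by simpa using hr2)
      refine Finset.mem_image.2 ⟨QuotientGroup.mk σ, Finset.mem_univ _, ?_⟩
      obtain ⟨s, hs⟩ := QuotientGroup.mk_out_eq_mul S σ
      simp only [e, hs, Subgroup.coe_mul, Perm.coe_mul, ← Finset.image_image, hB s s.2]
      ext x
      rw [← C.mem_toList, ← hσ, List.mem_map, Finset.mem_image]
      simp
    have h := (Finset.card_le_card hsur).trans Finset.card_image_le
    rw [Finset.card_powersetCard, Finset.card_univ, Finset.card_univ, Fintype.card_fin,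
      ← Nat.card_eq_fintype_card, ← Subgroup.index_eq_card] at h
    have h66 : ∀ k, 2 ≤ k → k + 2 ≤ r → 28 ≤ r.choose k := by
      intro k hk hk'
      rcases hr with rfl | rfl
      · have : k ≤ 10 := by omega
        interval_cases k <;> decide
      · have : k ≤ 11 := by omega
        interval_cases k <;> decide
    have := h66 _ h2 hr2
    omega
  -- orbits
  let orb : Fin r → Finset (Fin r) := fun i =>
    Finset.univ.filter fun j => ∃ g ∈ S, (g : Perm (Fin r)) i = j
  have horb : ∀ i, ∀ g ∈ S, (orb i).image (g : Perm (Fin r)) = orb i := by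
    intro i g hg
    ext j
    simp only [orb, Finset.mem_image, Finset.mem_filter, Finset.mem_univ, true_and]
    constructor
    · rintro ⟨x, ⟨h, hh, rfl⟩, rfl⟩
      exact ⟨g * h, mul_mem hg hh, rfl⟩
    · rintro ⟨h, hh, rfl⟩
      refine ⟨(g⁻¹ * h : alternatingGroup (Fin r)).1 i, ⟨_, mul_mem (inv_mem hg) hh, rfl⟩, ?_⟩
      simp
  have hself : ∀ i, i ∈ orb i := fun i => by
    simp only [orb, Finset.mem_filter, Finset.mem_univ, true_and]
    exact ⟨1, one_mem _, rfl⟩
  obtain ⟨i, hi'⟩ : ∃ i, (orb i).card ≤ r / 2 := by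
    by_contra hc
    push Not at hc
    apply not_transitive hr S hne hi
    refine ⟨fun i j => ?_⟩
    have hmeet : ((orb i) ∩ (orb j)).Nonempty := by
      refine Finset.inter_nonempty_of_card_lt_card_add_card (s := Finset.univ)
        (Finset.subset_univ _) (Finset.subset_univ _) ?_
      have := hc i; have := hc j
      simp only [Finset.card_univ, Fintype.card_fin]
      omega
    obtain ⟨x, hx⟩ := hmeet
    simp only [orb, Finset.mem_inter, Finset.mem_filter, Finset.mem_univ, true_and] at hx
    obtain ⟨⟨g, hg, hgx⟩, h, hh, hhx⟩ := hx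
    refine ⟨⟨_, Subgroup.mem_map_of_mem _ (mul_mem (inv_mem hh) hg)⟩, ?_⟩
    show ((h⁻¹ * g : alternatingGroup (Fin r)) : Perm (Fin r)) i = j
    rw [Subgroup.coe_mul, Perm.mul_apply, hgx, ← hhx]
    simp
  have hsingle : orb i = {i} := by
    by_cases h2 : 2 ≤ (orb i).card
    · exact (hbound _ (horb i) h2 (by omega)).elim
    · exact Finset.eq_singleton_iff_unique_mem.2 ⟨hself i, fun x hx =>
        Finset.card_le_one.1 (by omega) x hx i (hself i)⟩
  have hfix : ∀ g ∈ S, (g : Perm (Fin r)) i = i := fun g hg => by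
    have : (g : Perm (Fin r)) i ∈ orb i := by
      simp only [orb, Finset.mem_filter, Finset.mem_univ, true_and]; exact ⟨g, hg, rfl⟩
    rwa [hsingle, Finset.mem_singleton] at this
  refine ⟨i, hfix, fun j hj => ?_⟩
  by_contra hji
  refine hbound {j, i} (fun g hg => ?_) (by rw [Finset.card_pair hji]) (by
    rw [Finset.card_pair hji]; omega)
  rw [Finset.image_insert, Finset.image_singleton, hj g hg, hfix g hg]

end CfsgLib.AltSectESix
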