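import Cfsg.Agent.Chevalley.Element
import Cfsg.Prelude.Def_LieTwisted

/-!
# Generated subgroups of root words lie in the Chevalley group
-/

set_option autoImplicit false

namespace CfsgLib.AltSectESix

open Cfsg.Lie CfsgLib.Chevalley
open scoped MatrixGroups

/-- A subgroup generated by words in root elements lies in the Chevalley group. -/
theorem genSubgroup_le_group {D : ChevalleyDatum} (hD : Good D) {F : Type*} [Field F]
    (S : Set (List (ℕ × F))) : D.genSubgroup F S ≤ D.group F := by
  refine (Subgroup.closure_le _).2 ?_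
  rintro g ⟨w, -, hg⟩
  have key : ∀ w : List (ℕ × F), ∃ u ∈ D.group F,
      (u : Matrix D.Idx D.Idx F) = D.wordMat F w := by
    intro w
    induction w with
    | nil => exact ⟨1, one_mem _, by simp [ChevalleyDatum.wordMat]⟩
    | cons a w ih =>
      obtain ⟨u, hu, e⟩ := ih
      have hc : D.wordMat F (a :: w) = D.x F a.1 a.2 * D.wordMat F w := by
        simp [ChevalleyDatum.wordMat]
      by_cases h : a.1 < D.nroots
      · refine ⟨X hD ⟨a.1, h⟩ a.2 * u, mul_mem (X_mem_group hD _ _) hu, ?_⟩
        rw [Units.val_mul, e, hc, (coe_eq_x_iff hD h).2 rfl]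
      · exact ⟨u, hu, by rw [hc, e, ChevalleyDatum.x, dif_neg h, one_mul]⟩
  obtain ⟨u, hu, e⟩ := key w
  obtain rfl : g = u := Units.ext (hg.trans e.symm)
  exact hu

end CfsgLib.AltSectESix
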