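import Cfsg.Agent.AltSectESix.Form
import Cfsg.Agent.AltSectESix.SmallIndex
import Cfsg.Agent.AltMinDeg.Reduce

/-!
# Abelian normal subgroups are central

For a minimal group over an alternating group of degree twelve or thirteen preserving a cube form
on a space of dimension at most 27: the eigencharacters of an abelian normal subgroup of order
prime to the characteristic are fixed, since moved ones would leave at most four dimensions to
the contraction at an eigenvector.
-/

set_option autoImplicit false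
set_option linter.unusedSectionVars false

namespace CfsgLib.AltSectESix

open Module Equiv Equiv.Perm

variable {K : Type} [Field K] [IsAlgClosed K] {V : Type} [AddCommGroup V] [Module K V]
  [FiniteDimensional K V] {r : ℕ} {H : Type} [Group H] [Finite H]

/-- A minimal group over the alternating group preserving a cube form. -/
structure Ctx (K V : Type) [Field K] [AddCommGroup V] [Module K V] (r : ℕ) (H : Type) [Group H]
    where
  /-- the form -/
  C : CubeForm K V
  /-- the action -/
  ρ : H →* Module.End K V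
  /-- the map onto the alternating group -/
  φ : H →* alternatingGroup (Fin r)
  degree : r = 12 ∨ r = 13
  dim : finrank K V ≤ 27
  inj : Function.Injective ρ
  pres : ∀ h, C.Pres (ρ h)
  surj : Function.Surjective φ
  minimal : ∀ S : Subgroup H, S.map φ = ⊤ → S = ⊤

variable (X : Ctx K V r H)
include X

/-- A joint eigenspace. -/
def Ctx.W (A : Subgroup H) (χ : A → K) : Submodule K V :=
  ⨅ a : A, Module.End.eigenspace (X.ρ a) (χ a)

theorem Ctx.mem_W {A : Subgroup H} {χ : A → K} {v : V} :
    v ∈ X.W A χ ↔ ∀ a : A, X.ρ a v = χ a • v := by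
  simp [Ctx.W]

theorem Ctx.iSup_W (A : Subgroup H) (hcomm : ∀ a ∈ A, ∀ b ∈ A, a * b = b * a)
    (hA : ∀ a ∈ A, ∃ k : ℕ, (k : K) ≠ 0 ∧ a ^ k = 1) :
    ⨆ χ : A → K, X.W A χ = ⊤ := by
  have hs : ∀ (a : A) (μ : K),
      (X.ρ a).maxGenEigenspace μ = Module.End.eigenspace (X.ρ a) μ := by
    intro a μ
    obtain ⟨k, hk, ha⟩ := hA a a.2
    refine Module.End.IsFinitelySemisimple.maxGenEigenspace_eq_eigenspace ?_ μ
    refine Module.End.IsSemisimple.isFinitelySemisimple ?_
    refine Module.End.isSemisimple_of_squarefree_aeval_eq_zero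
      (p := Polynomial.X ^ k - 1) ?_ ?_
    · exact ((Polynomial.separable_X_pow_sub_C (F := K) 1 hk one_ne_zero)).squarefree
    · rw [map_sub, map_pow, Polynomial.aeval_X, map_one, ← map_pow, ha, map_one, sub_self]
  have h := Module.End.iSup_iInf_maxGenEigenspace_eq_top_of_iSup_maxGenEigenspace_eq_top_of_commute
    (fun a : A => X.ρ a) (fun a b _ => by
      show X.ρ a * X.ρ b = X.ρ b * X.ρ a
      rw [← map_mul, ← map_mul, hcomm a a.2 b b.2])
    (fun a => Module.End.iSup_maxGenEigenspace_eq_top _)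
  simpa [Ctx.W, hs] using h

theorem Ctx.rho_inj (h : H) : Function.Injective (X.ρ h) := fun u v e => by
  have := congrArg (X.ρ h⁻¹) e
  rwa [← Module.End.mul_apply, ← Module.End.mul_apply, ← map_mul, inv_mul_cancel, map_one] at this

/-- An abelian normal subgroup of order prime to the characteristic is central. -/
theorem Ctx.abelian_central (A : Subgroup H) [hAn : A.Normal]
    (hcomm : ∀ a ∈ A, ∀ b ∈ A, a * b = b * a)
    (hA : ∀ a ∈ A, ∃ k : ℕ, (k : K) ≠ 0 ∧ a ^ k = 1) :
    A ≤ Subgroup.center H := by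
  classical
  have hr := X.degree
  have htop := X.iSup_W A hcomm hA
  have hind : iSupIndep (X.W A) := by
    have h := Module.End.independent_iInf_maxGenEigenspace_of_forall_mapsTo
      (fun a : A => X.ρ a) fun a b μ => Module.End.mapsTo_maxGenEigenspace_of_comm (by
        show X.ρ b * X.ρ a = X.ρ a * X.ρ b
        rw [← map_mul, ← map_mul, hcomm b b.2 a a.2]) μ
    exact h.mono fun χ => iInf_mono fun a =>
      Module.End.eigenspace_le_maxGenEigenspace
  let Wt := {χ : A → K // X.W A χ ≠ ⊥}
  haveI : Fintype Wt := hind.fintypeNeBotOfFiniteDimensional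
  let d : Wt → ℕ := fun χ => finrank K (X.W A χ.1)
  have hd1 : ∀ χ : Wt, 1 ≤ d χ := fun χ => Submodule.one_le_finrank_iff.2 χ.2
  have hsum : ∀ s : Finset Wt, ∑ χ ∈ s, d χ ≤ finrank K V := by
    intro s
    have key : ∀ s : Finset Wt, ∑ χ ∈ s, d χ ≤
        finrank K (⨆ χ ∈ s, X.W A χ.1 : Submodule K V) := by
      intro s
      induction s using Finset.induction_on with
      | empty => simp
      | @insert a s ha ih =>
        rw [Finset.sum_insert ha, Finset.iSup_insert]
        have hdis : X.W A a.1 ⊓ ⨆ χ ∈ s, X.W A χ.1 = ⊥ :=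
          disjoint_iff.1 ((hind.comp (Subtype.val_injective (p := fun χ => X.W A χ ≠ ⊥))
            ).disjoint_biSup (y := (s : Set Wt)) (x := a) (by simpa using ha))
        have := Submodule.finrank_sup_add_finrank_inf_eq (X.W A a.1)
          (⨆ χ ∈ s, X.W A χ.1)
        rw [hdis, finrank_bot] at this
        show finrank K (X.W A a.1) + _ ≤ _
        omega
    exact (key s).trans (Submodule.finrank_le _)
  -- the action on the characters
  have hconj : ∀ (h : H) (a : A), h⁻¹ * a * h ∈ A := fun h a => by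
    simpa using hAn.conj_mem a a.2 h⁻¹
  let cj : H → A → A := fun h a => ⟨h⁻¹ * a * h, hconj h a⟩
  have hmap : ∀ (h : H) (χ : A → K), ∀ v ∈ X.W A χ, X.ρ h v ∈ X.W A (fun a => χ (cj h a)) := by
    intro h χ v hv
    rw [X.mem_W] at hv ⊢
    intro a
    rw [← map_smul, ← hv (cj h a), ← Module.End.mul_apply, ← Module.End.mul_apply, ← map_mul,
      ← map_mul]
    congr 1
    simp [cj, mul_assoc]
  have hne : ∀ (h : H) (χ : Wt), X.W A (fun a => χ.1 (cj h a)) ≠ ⊥ := by
    intro h χ e
    refine χ.2 ((Submodule.eq_bot_iff _).2 fun v hv => ?_)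
    have := hmap h χ.1 v hv
    rw [e, Submodule.mem_bot] at this
    exact X.rho_inj h (this.trans (map_zero _).symm)
  let act : H → Wt → Wt := fun h χ => ⟨fun a => χ.1 (cj h a), hne h χ⟩
  have act_one : ∀ χ, act 1 χ = χ := fun χ => by
    apply Subtype.ext; funext a; simp [act, cj]
  have act_mul : ∀ g h χ, act (g * h) χ = act g (act h χ) := fun g h χ => by
    apply Subtype.ext; funext a
    simp [act, cj, mul_assoc]
  letI : MulAction H Wt :=
    { smul := act, one_smul := act_one, mul_smul := act_mul }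
  have hdim : ∀ (h : H) (χ : Wt), d (h • χ) = d χ := by
    intro h χ
    have le : ∀ (h : H) (χ : Wt), d χ ≤ d (h • χ) := fun h χ =>
      LinearMap.finrank_le_finrank_of_injective
        (f := (X.ρ h).restrict (p := X.W A χ.1) (q := X.W A (h • χ).1) (hmap h χ.1))
        fun u v huv => Subtype.ext (X.rho_inj h (congrArg Subtype.val huv))
    refine le_antisymm ?_ (le h χ)
    have := le h⁻¹ (h • χ)
    rwa [inv_smul_smul] at this
  -- it suffices that nothing moves
  suffices hfix : ∀ (h : H) (χ : Wt), h • χ = χ by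
    intro a ha
    refine Subgroup.mem_center_iff.2 fun h => X.inj (LinearMap.ext fun v => ?_)
    have hv : v ∈ ⨆ χ : A → K, X.W A χ := htop ▸ Submodule.mem_top
    refine Submodule.iSup_induction (motive := fun v => X.ρ (h * a) v = X.ρ (a * h) v) _ hv
      ?_ (by simp) (fun x y hx hy => by rw [map_add, map_add, hx, hy])
    intro χ w hw
    by_cases h0 : X.W A χ = ⊥
    · rw [h0, Submodule.mem_bot] at hw; subst hw; simp
    have h1 : (fun b => χ (cj h b)) = χ := congrArg Subtype.val (hfix h ⟨χ, h0⟩)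
    have h2 := X.mem_W.1 (hmap h χ w hw) ⟨a, ha⟩
    rw [show χ (cj h ⟨a, ha⟩) = χ ⟨a, ha⟩ from congrFun h1 ⟨a, ha⟩] at h2
    have h3 := X.mem_W.1 hw ⟨a, ha⟩
    rw [map_mul, map_mul, Module.End.mul_apply, Module.End.mul_apply, h3, map_smul, h2]
  by_contra hmove
  push Not at hmove
  -- labels
  let Moved : Wt → Prop := fun χ => ∃ h : H, h • χ ≠ χ
  have hlab : ∀ χ : Wt, Moved χ → ∃! i : Fin r,
      ∀ g ∈ (MulAction.stabilizer H χ).map X.φ, (g : Perm (Fin r)) i = i := by
    rintro χ ⟨h, hh⟩
    refine exists_unique_fixed hr _ (fun e => hh ?_) ?_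
    · exact MulAction.mem_stabilizer_iff.1 (X.minimal _ e ▸ Subgroup.mem_top h)
    · refine (Nat.le_of_dvd (Nat.pos_of_ne_zero Subgroup.index_ne_zero_of_finite)
        (Subgroup.index_map_dvd _ X.surj)).trans ?_
      rw [MulAction.index_stabilizer]
      refine (Set.ncard_le_card _).trans ?_
      rw [Nat.card_eq_fintype_card, Fintype.card_eq_sum_ones]
      exact ((Finset.sum_le_sum fun χ _ => hd1 χ).trans (hsum _)).trans X.dim
  choose lab hlab hlabu using hlab
  have hlab_act : ∀ (h : H) (χ : Wt) (hm : Moved χ) (hm' : Moved (h • χ)),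
      lab (h • χ) hm' = (X.φ h : Perm (Fin r)) (lab χ hm) := by
    intro h χ hm hm'
    refine (hlabu _ hm' _ fun g hg => ?_).symm
    obtain ⟨s, hs, rfl⟩ := hg
    have hs' : h⁻¹ * s * h ∈ MulAction.stabilizer H χ := by
      rw [MulAction.mem_stabilizer_iff, mul_smul, mul_smul, MulAction.mem_stabilizer_iff.1 hs,
        inv_smul_smul]
    have e := hlab χ hm _ (Subgroup.mem_map_of_mem X.φ hs')
    rw [map_mul, map_mul, map_inv, Subgroup.coe_mul, Subgroup.coe_mul, Subgroup.coe_inv,
      Perm.mul_apply, Perm.mul_apply, Perm.inv_eq_iff_eq] at e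
    exact e
  have hmoved : ∀ (h : H) (χ : Wt), Moved χ → Moved (h • χ) := by
    rintro h χ ⟨g, hg⟩
    exact ⟨h * g * h⁻¹, fun e => hg (by simpa [mul_smul] using e)⟩
  let M : Fin r → Finset Wt := fun i => Finset.univ.filter fun χ => ∃ hm : Moved χ, lab χ hm = i
  have hM : ∀ i, ∑ χ ∈ M i, d χ ≤ 2 := by
    intro i
    have heq : ∀ j, ∑ χ ∈ M j, d χ = ∑ χ ∈ M i, d χ := by
      intro j
      obtain ⟨σ, hσ⟩ := CfsgAltMinDeg.exists_map_fin [i] [j] (by simp) (by simp) rfl
        (by simp; omega)
      simp only [List.map_cons, List.map_nil, List.cons.injEq, and_true] at hσ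
      obtain ⟨h, hh⟩ := X.surj σ
      refine Finset.sum_nbij' (fun χ => h⁻¹ • χ) (fun χ => h • χ) ?_ ?_
        (fun χ _ => smul_inv_smul h χ) (fun χ _ => inv_smul_smul h χ)
        (fun χ _ => (hdim h⁻¹ χ).symm)
      · intro χ hχ
        simp only [M, Finset.mem_coe, Finset.mem_filter, Finset.mem_univ, true_and] at hχ ⊢
        obtain ⟨hm, e⟩ := hχ
        refine ⟨hmoved _ _ hm, ?_⟩
        rw [hlab_act _ _ hm, e, map_inv, Subgroup.coe_inv, Perm.inv_eq_iff_eq, hh, hσ]
      · intro χ hχ
        simp only [M, Finset.mem_coe, Finset.mem_filter, Finset.mem_univ, true_and] at hχ ⊢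
        obtain ⟨hm, e⟩ := hχ
        exact ⟨hmoved _ _ hm, by rw [hlab_act _ _ hm, e, hh, hσ]⟩
    have hall : ∑ j, ∑ χ ∈ M j, d χ ≤ 27 := by
      rw [← Finset.sum_biUnion]
      · exact (hsum _).trans X.dim
      · intro a _ b _ hab
        show Disjoint (M a) (M b)
        rw [Finset.disjoint_left]
        intro χ ha hb
        simp only [M, Finset.mem_filter, Finset.mem_univ, true_and] at ha hb
        obtain ⟨_, ea⟩ := ha
        obtain ⟨_, eb⟩ := hb
        exact hab (ea.symm.trans eb)
    simp only [heq, Finset.sum_const, Finset.card_univ, Fintype.card_fin, smul_eq_mul] at hall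
    have : ∑ χ ∈ M i, d χ ≤ 2 := by
      by_contra h3
      have : r * 3 ≤ r * ∑ χ ∈ M i, d χ := Nat.mul_le_mul_left _ (by omega)
      omega
    exact this
  -- an element fixing two characters and moving the label of a third
  have hshift : ∀ (χ ν μ : Wt) (hm : Moved μ),
      (∀ hν : Moved ν, lab ν hν ≠ lab μ hm) → (∀ hχ : Moved χ, lab χ hχ ≠ lab μ hm) →
      ∃ h : H, h • χ = χ ∧ h • ν = ν ∧ h • μ ≠ μ := by
    intro χ ν μ hm hν hχ
    let li : Wt → Fin r → Prop := fun η k => ∀ hη : Moved η, lab η hη = k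
    obtain ⟨i, hi, hik⟩ : ∃ i, li χ i ∧ i ≠ lab μ hm := by
      by_cases h : Moved χ
      · exact ⟨_, fun _ => rfl, hχ h⟩
      · obtain ⟨i, hi⟩ := CfsgAltMinDeg.exists_notMem_fin [lab μ hm] (by simp; omega)
        exact ⟨i, fun hη => absurd hη h, by simpa using hi⟩
    obtain ⟨j, hj, hjk⟩ : ∃ j, li ν j ∧ j ≠ lab μ hm := by
      by_cases h : Moved ν
      · exact ⟨_, fun _ => rfl, hν h⟩
      · obtain ⟨i, hi⟩ := CfsgAltMinDeg.exists_notMem_fin [lab μ hm] (by simp; omega)
        exact ⟨i, fun hη => absurd hη h, by simpa using hi⟩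
    obtain ⟨l, hl⟩ := CfsgAltMinDeg.exists_notMem_fin [lab μ hm, i, j] (by simp; omega)
    obtain ⟨m, hm'⟩ := CfsgAltMinDeg.exists_notMem_fin [lab μ hm, i, j, l] (by simp; omega)
    simp only [List.mem_cons, List.not_mem_nil, or_false, not_or] at hl hm'
    obtain ⟨g, hg⟩ := X.surj (CfsgAltMinDeg.cyc (lab μ hm) l m)
    have gfix : ∀ p : Fin r, p ≠ lab μ hm → p ≠ l → p ≠ m →
        (X.φ g : Perm (Fin r)) p = p := fun p h1 h2 h3 => by
      rw [hg]; exact CfsgAltMinDeg.cyc_apply_other h1 h2 h3
    have sq : ∀ (η : Wt) (p : Fin r), li η p → p ≠ lab μ hm → p ≠ l → p ≠ m →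
        (g * g) • η = η := by
      intro η p hp h1 h2 h3
      by_cases hη : Moved η
      · have hin : η ∈ M p := by simp [M, hη, hp hη]
        have hin' : g • η ∈ M p := by
          simp only [M, Finset.mem_filter, Finset.mem_univ, true_and]
          exact ⟨hmoved g η hη, by rw [hlab_act g η hη, hp hη, gfix p h1 h2 h3]⟩
        have hin'' : g • g • η ∈ M p := by
          simp only [M, Finset.mem_filter, Finset.mem_univ, true_and]
          exact ⟨hmoved g _ (hmoved g η hη), by
            rw [hlab_act g _ (hmoved g η hη), hlab_act g η hη, hp hη, gfix p h1 h2 h3,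
              gfix p h1 h2 h3]⟩
        rw [mul_smul]
        by_contra hne2
        have hne1 : g • η ≠ η := fun e => hne2 (by rw [e, e])
        have hne3 : g • g • η ≠ g • η := fun e => hne1 (MulAction.injective g e)
        have h3c : ({η, g • η, g • g • η} : Finset Wt).card = 3 := by
          rw [Finset.card_insert_of_notMem (by simp [Ne.symm hne1, Ne.symm hne2]),
            Finset.card_pair (Ne.symm hne3)]
        have hsub : ({η, g • η, g • g • η} : Finset Wt) ⊆ M p := by
          simp [Finset.insert_subset_iff, hin, hin', hin'']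
        have h4 := (Finset.card_le_card hsub).trans
          ((Finset.card_eq_sum_ones _).le.trans (Finset.sum_le_sum fun χ _ => hd1 χ))
        have := hM p
        omega
      · by_contra hne
        exact hη ⟨_, hne⟩
    refine ⟨g * g, sq χ i hi hik (Ne.symm hl.2.1) (Ne.symm hm'.2.1),
      sq ν j hj hjk (Ne.symm hl.2.2) (Ne.symm hm'.2.2.1), fun e => ?_⟩
    have e2 := hlab_act (g * g) μ hm (hmoved _ _ hm)
    simp only [e, map_mul, Subgroup.coe_mul, Perm.mul_apply, hg] at e2
    rw [CfsgAltMinDeg.cyc_apply_left (Ne.symm hl.1) (Ne.symm hm'.2.2.2) (Ne.symm hm'.1),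
      CfsgAltMinDeg.cyc_apply_mid (Ne.symm hl.1) (Ne.symm hm'.2.2.2) (Ne.symm hm'.1)] at e2
    exact hm'.1 e2.symm
  -- the contraction at a moved character
  obtain ⟨h₀, χ, hχ₀⟩ := hmove
  have hχ : Moved χ := ⟨h₀, hχ₀⟩
  obtain ⟨u, hu, hu0⟩ := (Submodule.ne_bot_iff _).1 χ.2
  let Trip : Wt → Wt → Prop := fun ν μ => ∀ a, χ.1 a * ν.1 a * μ.1 a = 1
  have hkey : ∀ ν μ : Wt, Trip ν μ → ν ∈ M (lab χ hχ) ∨ μ ∈ M (lab χ hχ) := by
    intro ν μ ht
    by_contra hc
    push Not at hc
    simp only [M, Finset.mem_filter, Finset.mem_univ, true_and, not_exists] at hc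
    obtain ⟨hν, hμ⟩ := hc
    have htr : ∀ g : H, ∀ a, (g • χ).1 a * (g • ν).1 a * (g • μ).1 a = 1 := fun g a => ht (cj g a)
    have hn0 : ∀ (η : Wt) (a : A), η.1 a ≠ 0 := by
      intro η a e
      obtain ⟨w, hw, hw0⟩ := (Submodule.ne_bot_iff _).1 η.2
      have := X.mem_W.1 hw a
      rw [e, zero_smul] at this
      exact hw0 (X.rho_inj (a : H) (this.trans (map_zero _).symm))
    have third : ∀ g : H, g • χ = χ → g • ν = ν → g • μ = μ := by
      intro g e1 e2
      refine Subtype.ext (funext fun a => ?_)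
      have h1 := htr g a
      rw [e1, e2, ← ht a] at h1
      exact mul_left_cancel₀ (mul_ne_zero (hn0 χ a) (hn0 ν a)) h1
    have second : ∀ g : H, g • χ = χ → g • μ = μ → g • ν = ν := by
      intro g e1 e2
      refine Subtype.ext (funext fun a => ?_)
      have h1 := htr g a
      rw [e1, e2, ← ht a] at h1
      exact mul_left_cancel₀ (hn0 χ a) (mul_right_cancel₀ (hn0 μ a) h1)
    have first : ∀ g : H, g • ν = ν → g • μ = μ → g • χ = χ := by
      intro g e1 e2
      refine Subtype.ext (funext fun a => ?_)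
      have h1 := htr g a
      rw [e1, e2, ← ht a] at h1
      exact mul_right_cancel₀ (hn0 ν a) (mul_right_cancel₀ (hn0 μ a) h1)
    by_cases hμm : Moved μ
    · by_cases hνμ : ∃ hνm : Moved ν, lab ν hνm = lab μ hμm
      · obtain ⟨g, g1, g2, g3⟩ := hshift ν μ χ hχ hμ hν
        exact g3 (first g g1 g2)
      · obtain ⟨g, g1, g2, g3⟩ := hshift χ ν μ hμm (fun hνm e => hνμ ⟨hνm, e⟩)
          (fun _ => fun e => hμ hμm (e.symm ▸ rfl))
        exact g3 (third g g1 g2)
    · have hμf : ∀ g : H, g • μ = μ := fun g => by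
        by_contra hne
        exact hμm ⟨g, hne⟩
      by_cases hνm : Moved ν
      · obtain ⟨g, g1, -, g3⟩ := hshift χ μ ν hνm (fun h => absurd h hμm)
          (fun _ => fun e => hν hνm (e.symm ▸ rfl))
        exact g3 (second g g1 (hμf g))
      · exact hχ₀ (first h₀ (by by_contra hne; exact hνm ⟨h₀, hne⟩) (hμf h₀))
  let mate : Wt → Option Wt := fun ν =>
    if h : ∃ μ, Trip ν μ then some h.choose else none
  have hq0 : ∀ ν μ : Wt, ¬ Trip ν μ → ∀ a ∈ X.W A ν.1, ∀ b ∈ X.W A μ.1, X.C.B u a b = 0 := by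
    intro ν μ hn a ha b hb
    obtain ⟨x, hx⟩ := not_forall.1 hn
    exact apply_eq_zero X.C (X.pres x) (X.mem_W.1 hu x) (X.mem_W.1 ha x) (X.mem_W.1 hb x) hx
  have huniq : ∀ ν μ μ' : Wt, Trip ν μ → Trip ν μ' → μ = μ' := by
    intro ν μ μ' h1 h2
    refine Subtype.ext (funext fun a => ?_)
    have hne : χ.1 a * ν.1 a ≠ 0 := fun e => by simpa [e] using h1 a
    exact mul_left_cancel₀ hne ((h1 a).trans (h2 a).symm)
  have htop' : ⨆ ν : Wt, X.W A ν.1 = ⊤ := by
    rw [eq_top_iff, ← htop]
    refine iSup_le fun η => ?_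
    by_cases h : X.W A η = ⊥
    · simp [h]
    · exact le_iSup_of_le (⟨η, h⟩ : Wt) le_rfl
  have hbound := finrank_range_le (X.C.B u) (fun ν : Wt => X.W A ν.1) htop'
  let f : Wt → ℕ := fun ν => (if ν ∈ M (lab χ hχ) then d ν else 0) +
    match mate ν with
    | some μ => if μ ∈ M (lab χ hχ) then d μ else 0
    | none => 0
  have hf : ∀ ν : Wt, finrank K ((X.W A ν.1).map (X.C.B u)) ≤ f ν := by
    intro ν
    by_cases h : ∃ μ, Trip ν μ
    · have hsome : mate ν = some h.choose := dif_pos h
      rcases hkey ν h.choose h.choose_spec with h1 | h1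
      · simp only [f, if_pos h1]
        exact (Submodule.finrank_map_le _ _).trans (Nat.le_add_right _ _)
      · simp only [f, hsome, if_pos h1]
        refine le_trans ?_ (Nat.le_add_left _ _)
        refine finrank_map_le _ _ _ (⨆ (μ : Wt) (_ : μ ≠ h.choose), X.W A μ.1) ?_ ?_
        · rw [eq_top_iff, ← htop']
          refine iSup_le fun μ => ?_
          by_cases e : μ = h.choose
          · exact e ▸ le_sup_right
          · exact le_sup_of_le_left (le_iSup₂_of_le μ e le_rfl)
        · exact fun a ha b hb => apply_eq_zero_of_iSup (X.C.B u) (fun μ : Wt => X.W A μ.1)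
            (fun μ hμ b hb => hq0 ν μ (fun ht => hμ (huniq ν _ _ ht h.choose_spec)) a ha b hb) hb
    · have : (X.W A ν.1).map (X.C.B u) = ⊥ := by
        rw [Submodule.eq_bot_iff]
        rintro _ ⟨a, ha, rfl⟩
        refine LinearMap.ext fun b => ?_
        have hb : b ∈ ⨆ (μ : Wt) (_ : True), X.W A μ.1 := by simp [htop']
        exact apply_eq_zero_of_iSup (X.C.B u) (fun μ : Wt => X.W A μ.1)
          (fun μ _ b hb => hq0 ν μ (fun ht => h ⟨μ, ht⟩) a ha b hb) hb
      rw [this, finrank_bot]
      exact Nat.zero_le _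
  have hf2 : ∑ ν, f ν ≤ 4 := by
    simp only [f]
    rw [Finset.sum_add_distrib]
    have h1 : ∑ ν, (if ν ∈ M (lab χ hχ) then d ν else 0) ≤ 2 := by
      rw [Finset.sum_ite_mem, Finset.univ_inter]; exact hM _
    have h2 : ∑ ν, (match mate ν with
        | some μ => if μ ∈ M (lab χ hχ) then d μ else 0
        | none => 0) ≤ 2 := by
      refine le_trans ?_ (hM (lab χ hχ))
      let S := Finset.univ.filter fun ν => ∃ μ ∈ M (lab χ hχ), mate ν = some μ
      rw [← Finset.sum_subset (s₁ := S) (Finset.subset_univ _) ?_]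
      · have hinj : ∀ ν ∈ S, ∀ ν' ∈ S, mate ν = mate ν' → ν = ν' := by
          intro ν hν ν' hν' e
          simp only [S, Finset.mem_filter, Finset.mem_univ, true_and] at hν
          obtain ⟨μ, -, hμ⟩ := hν
          rw [hμ] at e
          simp only [mate] at hμ e
          split_ifs at hμ with h1
          split_ifs at e with h2
          obtain rfl := Option.some.inj hμ
          have t2 := h2.choose_spec
          rw [← Option.some.inj e] at t2
          refine Subtype.ext (funext fun a => ?_)
          have t1 := h1.choose_spec a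
          have hne : χ.1 a ≠ 0 := fun e' => by simp [e'] at t1
          have hne' : h1.choose.1 a ≠ 0 := fun e' => by simp [e'] at t1
          exact mul_left_cancel₀ hne (mul_right_cancel₀ hne' (t1.trans (t2 a).symm))
        have hto : ∀ ν ∈ S, ((mate ν).getD χ) ∈ M (lab χ hχ) := by
          intro ν hν
          simp only [S, Finset.mem_filter, Finset.mem_univ, true_and] at hν
          obtain ⟨μ, hμ, e⟩ := hν
          simpa [e] using hμ
        refine le_trans (le_of_eq (Finset.sum_congr rfl (g := fun ν => d ((mate ν).getD χ))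
          fun ν hν => ?_)) ?_
        · simp only [S, Finset.mem_filter, Finset.mem_univ, true_and] at hν
          obtain ⟨μ, hμ, e⟩ := hν
          simp [e, hμ]
        · rw [← Finset.sum_image (f := d) (g := fun ν => (mate ν).getD χ) ?_]
          · exact Finset.sum_le_sum_of_subset (fun μ hμ => by
              obtain ⟨ν, hν, rfl⟩ := Finset.mem_image.1 hμ
              exact hto ν hν)
          · intro ν hν ν' hν' e
            refine hinj ν hν ν' hν' ?_
            simp only [S, Finset.mem_coe, Finset.mem_filter, Finset.mem_univ, true_and] at hν hν'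
            obtain ⟨μ, -, e1⟩ := hν
            obtain ⟨μ', -, e2⟩ := hν'
            simp only [e1, e2, Option.getD_some] at e
            rw [e1, e2, e]
      · intro ν _ hν
        simp only [S, Finset.mem_filter, Finset.mem_univ, true_and, not_exists, not_and] at hν
        rcases hm : mate ν with _ | μ
        · rfl
        · simp only
          rw [if_neg fun hμ => hν μ hμ hm]
    omega
  have h10 := X.C.ten_le u hu0
  have := hbound.trans (Finset.sum_le_sum fun ν _ => hf ν)
  omega

end CfsgLib.AltSectESix
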